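import Groth.Agent.H10Coh.FinType2
import Groth.Agent.H10Coh.Support
import Groth.Agent.H10Coh.QcqsPush
import Groth.Agent.H10Coh.TildeExact
import Groth.Prelude.Def_CohB1

/-!
# Comparing coherent modules which agree on an affine open
-/

set_option autoImplicit false
set_option linter.style.haveILetI false
set_option linter.unusedSectionVars false

universe u

open CategoryTheory CategoryTheory.Limits AlgebraicGeometry Opposite TopologicalSpace

namespace Groth.Agent.LeadDev

variable {X : Scheme.{u}}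

theorem stalk_injective_of_mono {M N : X.Modules} (f : M ⟶ N) [Mono f] (x : X) :
    Function.Injective ((TopCat.Presheaf.stalkFunctor AddCommGrpCat.{u} x).map f.mapPresheaf) := by
  refine (injective_iff_map_eq_zero _).2 fun a ha => ?_
  obtain ⟨U, hx, s, rfl⟩ := TopCat.Presheaf.exists_germ_eq M.presheaf a
  erw [H10Coh.germ_app] at ha
  obtain ⟨W, hxW, iU, iU', hW⟩ := TopCat.Presheaf.germ_eq N.presheaf x hx hx (f.app U s) 0 (ha.trans (map_zero _).symm)
  rw [map_zero] at hW
  have h1 : f.app W (M.presheaf.map iU.op s) = f.app W 0 :=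
    ((congr($(f.mapPresheaf.naturality iU.op) s)).trans hW).trans (map_zero _).symm
  have h2 := H10Coh.injective_app_of_mono' f W h1
  rw [← TopCat.Presheaf.germ_res_apply M.presheaf iU x hxW, h2, map_zero]
  rfl

theorem support_subset_of_mono {M N : X.Modules} (f : M ⟶ N) [Mono f] :
    CohB1.support M ⊆ CohB1.support N := by
  intro x hx (h : Subsingleton (N.presheaf.stalk x))
  exact hx (@Function.Injective.subsingleton _ _ _ (stalk_injective_of_mono f x) h)

theorem support_subset_of_epi {M N : X.Modules} (f : M ⟶ N) [Epi f] :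
    CohB1.support N ⊆ CohB1.support M := by
  intro x hx (h : Subsingleton (M.presheaf.stalk x))
  refine hx (subsingleton_of_forall_eq 0 fun a => ?_)
  obtain ⟨U, hxU, t, rfl⟩ := TopCat.Presheaf.exists_germ_eq N.presheaf a
  obtain ⟨V, hV, hxV, s, hs⟩ := H10Coh.exists_nhds_lift_of_epi f U t x hxU
  rw [← TopCat.Presheaf.germ_res_apply N.presheaf (homOfLE hV) x hxV, ← hs]
  have h1 := H10Coh.germ_app f V x hxV s
  rw [Subsingleton.elim (M.presheaf.germ V x hxV s) 0] at h1
  erw [map_zero] at h1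
  exact h1.symm

theorem support_subset_of_iso {M N : X.Modules} (e : M ≅ N) : CohB1.support M ⊆ CohB1.support N :=
  support_subset_of_mono e.hom

theorem support_subset_of_shortExact {S : ShortComplex X.Modules} (hS : S.ShortExact) :
    CohB1.support S.X₂ ⊆ CohB1.support S.X₁ ∪ CohB1.support S.X₃ := by
  intro x hx
  by_contra h
  rw [Set.mem_union, not_or] at h
  have h1 : Subsingleton (S.X₁.presheaf.stalk x) := not_not.1 h.1
  have h3 : Subsingleton (S.X₃.presheaf.stalk x) := not_not.1 h.2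
  refine hx (subsingleton_of_forall_eq 0 fun a => ?_)
  obtain ⟨U, hxU, t, rfl⟩ := TopCat.Presheaf.exists_germ_eq S.X₂.presheaf a
  obtain ⟨W, hxW, iU, iU', hW⟩ := TopCat.Presheaf.germ_eq S.X₃.presheaf x hxU hxU (S.g.app U t) 0
    (Subsingleton.elim _ _)
  rw [map_zero] at hW
  have h0 : S.g.app W (S.X₂.presheaf.map iU.op t) = 0 :=
    (congr($(S.g.mapPresheaf.naturality iU.op) t)).trans hW
  obtain ⟨y, hy⟩ := H10Coh.exists_app_eq_of_exact hS W _ h0
  have h2 := H10Coh.germ_app S.f W x hxW y
  rw [Subsingleton.elim (S.X₁.presheaf.germ W x hxW y) 0] at h2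
  erw [map_zero] at h2
  rw [hy, TopCat.Presheaf.germ_res_apply] at h2
  exact h2.symm

theorem support_eq_empty_of_isZero {M : X.Modules} (hM : IsZero M) : CohB1.support M = ∅ := by
  refine Set.eq_empty_of_forall_notMem fun x hx => hx (subsingleton_of_forall_eq 0 fun a => ?_)
  obtain ⟨U, hxU, t, rfl⟩ := TopCat.Presheaf.exists_germ_eq M.presheaf a
  have : t = 0 := congr($(congr(Scheme.Modules.Hom.app $(hM.eq_of_src (𝟙 M) 0) U)) t)
  rw [this, map_zero]

section open_immersion

variable {V : Scheme.{u}} (j : V ⟶ X) [IsOpenImmersion j]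

theorem notMem_support_of_isZero_restrict {M : X.Modules} (h : IsZero (M.restrict j)) {x : X}
    (hx : x ∈ Set.range j) : x ∉ CohB1.support M := by
  refine fun hs => hs (subsingleton_of_forall_eq 0 fun a => ?_)
  obtain ⟨U, hxU, t, rfl⟩ := TopCat.Presheaf.exists_germ_eq M.presheaf a
  obtain ⟨y, rfl⟩ := hx
  have hle : j ''ᵁ (j ⁻¹ᵁ U) ≤ U := j.image_preimage_le U
  have hy : j y ∈ j ''ᵁ (j ⁻¹ᵁ U) := ⟨y, hxU, rfl⟩
  have h1 : ∀ s : Γ(M.restrict j, j ⁻¹ᵁ U), s = 0 := fun s =>
    congr($(congr(Scheme.Modules.Hom.app $(h.eq_of_src (𝟙 (M.restrict j)) 0) (j ⁻¹ᵁ U))) s)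
  rw [← TopCat.Presheaf.germ_res_apply M.presheaf (homOfLE hle) (j y) hy,
    show M.presheaf.map (homOfLE hle).op t = 0 from h1 _, map_zero]

theorem sections_restrict_eq_zero {M : X.Modules} (h : IsZero (M.restrict j)) {O : X.Opens}
    (hO : O ≤ j.opensRange) (t : Γ(M, O)) : t = 0 := by
  have e : j ''ᵁ (j ⁻¹ᵁ O) = O := by
    rw [Scheme.Hom.image_preimage_eq_opensRange_inf]; exact inf_eq_right.2 hO
  have h1 : ∀ s : Γ(M.restrict j, j ⁻¹ᵁ O), s = 0 := fun s =>
    congr($(congr(Scheme.Modules.Hom.app $(h.eq_of_src (𝟙 (M.restrict j)) 0) (j ⁻¹ᵁ O))) s)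
  have h2 : M.presheaf.map (homOfLE e.le).op t = 0 := h1 _
  have : IsIso (homOfLE e.le) := homOfLE_isIso_of_eq _ e
  exact (ConcreteCategory.bijective_of_isIso (M.presheaf.map (homOfLE e.le).op)).1 (h2.trans (map_zero _).symm)

end open_immersion

theorem isCoh_biprod [IsLocallyNoetherian X] {A B : X.Modules} (hA : Coh.IsCoh A) (hB : Coh.IsCoh B) :
    Coh.IsCoh (A ⊞ B) := by
  have hS : (ShortComplex.mk (biprod.inl : A ⟶ A ⊞ B) biprod.snd biprod.inl_snd).ShortExact :=
    ShortComplex.Splitting.shortExact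
      { r := biprod.fst, s := biprod.inr, f_r := biprod.inl_fst, s_g := biprod.inr_snd, id := biprod.total }
  exact H10Coh.isCoh_X₂ hS hA hB

theorem isQCoh_push_open [IsNoetherian X] {V : Scheme.{u}} (j : V ⟶ X) [IsOpenImmersion j] (N : V.Modules)
    (hN : Coh.IsQCoh N) : Coh.IsQCoh ((Scheme.Modules.pushforward j).obj N) := by
  haveI : N.IsQuasicoherent := hN
  haveI : QuasiCompact j := ⟨fun U hU hUc => (Scheme.Hom.isOpenEmbedding j).isInducing.isCompact_iff.2
    (TopologicalSpace.NoetherianSpace.isCompact _)⟩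
  exact H10Coh.isQuasicoherent_pushforward j N

theorem isQCoh_restrict {V : Scheme.{u}} (j : V ⟶ X) [IsOpenImmersion j] (N : X.Modules)
    (hN : Coh.IsQCoh N) : Coh.IsQCoh (N.restrict j) :=
  @Scheme.Modules.isQuasicoherent_restrictFunctor _ _ j _ N hN

section abstract

variable {C D : Type*} [Category C] [Category D] [Abelian C] [Abelian D] {F : C ⥤ D} {G : D ⥤ C}

theorem compare_abstract [F.Additive] [PreservesFiniteLimits F] (adj : F ⊣ G) [IsIso adj.counit]
    (A B : C) (f : F.obj A ⟶ F.obj B) :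
    let d : A ⊞ B ⟶ G.obj (F.obj B) := biprod.desc (adj.unit.app A ≫ G.map f) (-adj.unit.app B)
    IsIso (F.map (kernel.ι d ≫ biprod.fst)) ∧
      F.map (kernel.ι d ≫ biprod.snd) = F.map (kernel.ι d ≫ biprod.fst) ≫ f := by
  intro d
  have hε : F.map (adj.unit.app A ≫ G.map f) ≫ adj.counit.app (F.obj B) = f := by
    rw [F.map_comp, Category.assoc]
    simp
  have hεB : F.map (adj.unit.app B) ≫ adj.counit.app (F.obj B) = 𝟙 (F.obj B) := adj.left_triangle_components B
  have h0 : (kernel.ι d ≫ biprod.fst) ≫ adj.unit.app A ≫ G.map f =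
      (kernel.ι d ≫ biprod.snd) ≫ adj.unit.app B := by
    have := kernel.condition d
    have hd : d = biprod.fst ≫ (adj.unit.app A ≫ G.map f) + biprod.snd ≫ (-adj.unit.app B) := biprod.desc_eq
    have h' : kernel.ι d ≫ (biprod.fst ≫ (adj.unit.app A ≫ G.map f) + biprod.snd ≫ (-adj.unit.app B)) = 0 :=
      (congrArg (kernel.ι d ≫ ·) hd).symm.trans this
    rw [Preadditive.comp_add, Preadditive.comp_neg, Preadditive.comp_neg, add_neg_eq_zero] at h'
    rw [Category.assoc, Category.assoc]
    exact h'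
  have hrel : F.map (kernel.ι d ≫ biprod.snd) = F.map (kernel.ι d ≫ biprod.fst) ≫ f := by
    have h1 := congr(F.map $h0 ≫ adj.counit.app (F.obj B))
    rw [F.map_comp (kernel.ι d ≫ biprod.fst), F.map_comp (kernel.ι d ≫ biprod.snd), Category.assoc,
      Category.assoc, hε, hεB, Category.comp_id] at h1
    exact h1.symm
  refine ⟨?_, hrel⟩
  have hl : (F.map biprod.inl + f ≫ F.map biprod.inr : F.obj A ⟶ F.obj (A ⊞ B)) ≫ F.map d = 0 := by
    rw [← cancel_mono (adj.counit.app (F.obj B))]
    simp only [Preadditive.add_comp, Category.assoc, zero_comp]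
    rw [← F.map_comp_assoc, ← F.map_comp_assoc, biprod.inl_desc, biprod.inr_desc, F.map_neg,
      Preadditive.neg_comp, hεB, hε, Preadditive.comp_neg, Category.comp_id, add_neg_cancel]
  let L := isLimitOfHasKernelOfPreservesLimit F d
  let l : F.obj A ⟶ F.obj (kernel d) := L.lift (KernelFork.ofι _ hl)
  have hlι : l ≫ F.map (kernel.ι d) = F.map biprod.inl + f ≫ F.map biprod.inr :=
    L.fac _ WalkingParallelPair.zero
  refine ⟨l, ?_, ?_⟩
  · refine Fork.IsLimit.hom_ext L ?_
    show (_ ≫ l) ≫ F.map (kernel.ι d) = 𝟙 _ ≫ F.map (kernel.ι d)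
    rw [Category.assoc, hlι, Category.id_comp, Preadditive.comp_add, ← Category.assoc _ f, ← hrel,
      ← F.map_comp, ← F.map_comp, ← F.map_add]
    congr 1
    simp only [Category.assoc, ← Preadditive.comp_add, biprod.total, Category.comp_id]
  · rw [F.map_comp, ← Category.assoc, hlι, Preadditive.add_comp, Category.assoc, ← F.map_comp,
      ← F.map_comp, biprod.inl_fst, biprod.inr_fst]
    simp

theorem mono_lift_kernel {A B E : C} (d : A ⊞ B ⟶ E) :
    Mono (biprod.lift (kernel.ι d ≫ biprod.fst) (kernel.ι d ≫ biprod.snd)) := by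
  have : biprod.lift (kernel.ι d ≫ biprod.fst) (kernel.ι d ≫ biprod.snd) = kernel.ι d := by
    apply biprod.hom_ext <;> simp
  rw [this]; infer_instance

end abstract

/-- Two coherent modules with a morphism between their restrictions to an open are dominated by a
coherent module which agrees with the first one on the open. -/
theorem exists_compare [IsNoetherian X] {V : Scheme.{u}} (j : V ⟶ X) [IsOpenImmersion j]
    {A B : X.Modules} (hA : Coh.IsCoh A) (hB : Coh.IsCoh B) (f : A.restrict j ⟶ B.restrict j) :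
    ∃ (H : X.Modules) (a : H ⟶ A) (b : H ⟶ B), Coh.IsCoh H ∧ Mono (biprod.lift a b) ∧
      IsIso ((Scheme.Modules.restrictFunctor j).map a) ∧
      (Scheme.Modules.restrictFunctor j).map b = (Scheme.Modules.restrictFunctor j).map a ≫ f := by
  have h := compare_abstract (Scheme.Modules.restrictAdjunction j) A B f
  exact ⟨_, _, _, H10Coh.isCoh_kernel _ (isCoh_biprod hA hB)
    (isQCoh_push_open j _ (isQCoh_restrict j B hB.1)), mono_lift_kernel _, h.1, h.2⟩

section spec

variable {R : CommRingCat.{u}}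

/-- A morphism of quasi-coherent modules on an affine scheme from a map on global sections. -/
theorem exists_hom_of_sections (M N : (Spec R).Modules) (hM : Coh.IsQCoh M) (hN : Coh.IsQCoh N)
    (φ : moduleSpecΓFunctor.obj M ⟶ moduleSpecΓFunctor.obj N) :
    ∃ f : M ⟶ N, (Mono φ → Mono f) ∧ (IsIso φ → IsIso f) := by
  haveI hMi : IsIso M.fromTildeΓ := (isQuasicoherent_iff_isIso_fromTildeΓ M).1 hM
  haveI hNi : IsIso N.fromTildeΓ := (isQuasicoherent_iff_isIso_fromTildeΓ N).1 hN
  refine ⟨inv M.fromTildeΓ ≫ tilde.map φ ≫ N.fromTildeΓ, fun h => ?_, fun h => ?_⟩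
  · haveI := h
    have hm : Mono (tilde.map φ) := H10Coh.mono_tilde_map φ
    exact mono_comp' inferInstance (mono_comp' hm (@IsIso.mono_of_iso _ _ _ _ _ hNi))
  · haveI := h
    have hm : IsIso (tilde.map φ) := (tilde.functor R).map_isIso φ
    exact IsIso.comp_isIso' inferInstance (IsIso.comp_isIso' hm hNi)

end spec

end Groth.Agent.LeadDev
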