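import Groth.Agent.LeadDev.Generic
import Mathlib.RingTheory.SimpleModule.Basic
import Mathlib.RingTheory.Length
import Groth.Prelude.Def_ClSub2
import Groth.Agent.H06Mod.StalkExact

/-!
# Dévissage with weaker closure rules: the step at a generic point
-/

set_option autoImplicit false
set_option linter.style.haveILetI false
set_option linter.unusedSectionVars false

universe u

open CategoryTheory CategoryTheory.Limits AlgebraicGeometry Opposite TopologicalSpace

namespace Groth.Agent.LeadDev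

variable {X : Scheme.{u}}

/-- The condition used in `exists_generic`: `G` is killed at `ξ` by the functions vanishing at `ξ`. -/
def KilledAt (ξ : X) (W : X.Opens) (G : X.Modules) : Prop :=
  ∀ a : Γ(X, W), ξ ∉ X.basicOpen a → ∀ s : Γ(G, W), ∃ c : Γ(X, W), UnitAt ξ W c ∧ c • a • s = 0

/-- `G` is cyclic at `ξ` in the sense used in `exists_generic`. -/
def CyclicAt (ξ : X) (W : X.Opens) (G : X.Modules) : Prop :=
  ∀ e₀ y : Γ(G, W), (∀ c : Γ(X, W), UnitAt ξ W c → c • e₀ ≠ 0) →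
    ∃ c a : Γ(X, W), UnitAt ξ W c ∧ c • y = a • e₀

section stalk

variable {ξ : X} {W : X.Opens} (hW : IsAffineOpen W) (hξ : ξ ∈ W) {G : X.Modules} (hG : Coh.IsQCoh G)

include hW hξ hG

theorem killedAt_of_stalk
    (h : ∀ a ∈ IsLocalRing.maximalIdeal (X.presheaf.stalk ξ), ∀ m : ↑(G.presheaf.stalk ξ), a • m = 0) :
    KilledAt ξ W G := fun a ha s => by
  have h1 : G.presheaf.germ W ξ hξ (a • s) = 0 := by
    rw [H17.AssPts.germ_smul' G hξ]
    exact h _ (fun hu => ha ((H17.AssPts.isUnit_germ_iff hξ a).1 hu)) _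
  exact H17.AssPts.exists_smul_eq_zero_of_germ G hG hW hξ h1

theorem killedAt_of_residue
    (e : ↑(G.presheaf.stalk ξ) ≃ₗ[X.presheaf.stalk ξ] IsLocalRing.ResidueField (X.presheaf.stalk ξ)) :
    KilledAt ξ W G := killedAt_of_stalk hW hξ hG fun a ha m => e.injective (by
  rw [map_smul, map_zero, Algebra.smul_def, IsLocalRing.ResidueField.algebraMap_eq,
    (IsLocalRing.residue_eq_zero_iff a).2 ha, zero_mul])

theorem cyclicAt_of_residue
    (e : ↑(G.presheaf.stalk ξ) ≃ₗ[X.presheaf.stalk ξ] IsLocalRing.ResidueField (X.presheaf.stalk ξ)) :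
    CyclicAt ξ W G := fun e₀ y he₀ => by
  have hne : e (G.presheaf.germ W ξ hξ e₀) ≠ 0 := fun h => by
    obtain ⟨t, ht, ht0⟩ := H17.AssPts.exists_smul_eq_zero_of_germ G hG hW hξ
      ((map_eq_zero_iff e e.injective).1 h)
    exact he₀ t ht ht0
  obtain ⟨v, hv⟩ := IsLocalRing.residue_surjective (e (G.presheaf.germ W ξ hξ y) * (e (G.presheaf.germ W ξ hξ e₀))⁻¹)
  have hgy : G.presheaf.germ W ξ hξ y = v • G.presheaf.germ W ξ hξ e₀ := e.injective (by
    rw [map_smul, Algebra.smul_def, IsLocalRing.ResidueField.algebraMap_eq, hv, mul_assoc,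
      inv_mul_cancel₀ hne, mul_one])
  -- write `v` as a fraction
  letI := TopCat.Presheaf.algebra_section_stalk X.presheaf (⟨ξ, hξ⟩ : W)
  haveI := hW.isLocalization_stalk ⟨ξ, hξ⟩
  obtain ⟨⟨a, t⟩, hat⟩ := IsLocalization.surj (M := (hW.primeIdealOf ⟨ξ, hξ⟩).asIdeal.primeCompl) (S := X.presheaf.stalk ξ) v
  have ht : ξ ∈ X.basicOpen (t : Γ(X, W)) := by
    by_contra hc
    exact t.2 ((H17.AssPts.mem_primeIdealOf hW hξ _).2 hc)
  have hat' : v * X.presheaf.germ W ξ hξ (t : Γ(X, W)) = X.presheaf.germ W ξ hξ a := hat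
  have h1 : G.presheaf.germ W ξ hξ ((t : Γ(X, W)) • y - a • e₀) = 0 := by
    rw [map_sub, H17.AssPts.germ_smul' G hξ, H17.AssPts.germ_smul' G hξ, hgy, smul_smul, mul_comm, hat', sub_self]
  obtain ⟨d, hd, hd0⟩ := H17.AssPts.exists_smul_eq_zero_of_germ G hG hW hξ h1
  refine ⟨d * (t : Γ(X, W)), d * a, UnitAt.mul hd ht, ?_⟩
  rw [smul_sub, sub_eq_zero, smul_smul, smul_smul] at hd0
  exact hd0

end stalk

theorem nontrivial_of_residue {R : Type u} [CommRing R] [IsLocalRing R] {M : Type u} [AddCommGroup M] [Module R M]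
    (e : M ≃ₗ[R] IsLocalRing.ResidueField R) : Nontrivial M := e.toEquiv.nontrivial

theorem exists_residue_equiv {R : Type u} [CommRing R] [IsLocalRing R] {M : Type u} [AddCommGroup M] [Module R M]
    (h : Module.length R M = 1) : Nonempty (M ≃ₗ[R] IsLocalRing.ResidueField R) := by
  haveI : IsSimpleModule R M := Module.length_eq_one_iff.1 h
  obtain ⟨I, hI, ⟨e⟩⟩ := (isSimpleModule_iff_quot_maximal (R := R) (M := M)).1 inferInstance
  obtain rfl := IsLocalRing.eq_maximalIdeal hI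
  exact ⟨e⟩

theorem killedAt_of_killedByIdeal {ξ : X} {W : X.Opens} (hW : IsAffineOpen W) (hξ : ξ ∈ W) (C : Closeds X)
    (hC : (C : Set X) ⊆ closure {ξ}) {G : X.Modules}
    (h : ClSub.KilledByIdeal (Scheme.IdealSheafData.vanishingIdeal C) G) :
    KilledAt ξ W G := fun a ha s => ⟨1, unitAt_one hξ, by
  have hmem : a ∈ (Scheme.IdealSheafData.vanishingIdeal C).ideal ⟨W, hW⟩ := by
    rw [Scheme.IdealSheafData.vanishingIdeal_ideal]
    refine (PrimeSpectrum.mem_vanishingIdeal _ _).2 fun p hp => ?_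
    have hsp : ξ ⤳ hW.fromSpec p := specializes_iff_mem_closure.2 (hC hp)
    have hnot : hW.fromSpec p ∉ X.basicOpen a := fun hb => ha (hsp.mem_open (X.basicOpen a).2 hb)
    by_contra hc
    refine hnot ?_
    have : p ∈ hW.fromSpec ⁻¹ᵁ X.basicOpen a := by
      rw [hW.fromSpec_preimage_basicOpen]; exact hc
    exact this
  have h0 : a • s = 0 := h ⟨W, hW⟩ a hmem s
  rw [one_smul, h0]⟩

theorem surjAt_of_isIso_stalk {ξ : X} {W : X.Opens} (hW : IsAffineOpen W) (hξ : ξ ∈ W) {M N : X.Modules}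
    (hM : Coh.IsQCoh M) (hN : Coh.IsQCoh N) (f : M ⟶ N)
    (h : IsIso ((TopCat.Presheaf.stalkFunctor _ ξ).map f.mapPresheaf)) : SurjAt ξ W f := fun y => by
  obtain ⟨m, hm⟩ := (ConcreteCategory.bijective_of_isIso
    ((TopCat.Presheaf.stalkFunctor _ ξ).map f.mapPresheaf)).2 (N.presheaf.germ W ξ hξ y)
  obtain ⟨t, s, ht, hts⟩ := H17.AssPts.exists_smul_germ_eq M hM hW hξ m
  have h1 : N.presheaf.germ W ξ hξ (f.app W s) = N.presheaf.germ W ξ hξ (t • y) := by
    rw [H17.AssPts.germ_smul' N hξ, ← hm]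
    refine (TopCat.Presheaf.stalkFunctor_map_germ_apply W ξ hξ f.mapPresheaf s).symm.trans ?_
    erw [← hts]
    exact H06Mod.stalkMap_smul f ξ _ m
  obtain ⟨d, hd, hd0⟩ := H17.AssPts.exists_smul_eq_zero_of_germ N hN hW hξ
    (s := f.app W s - t • y) (by rw [map_sub, h1, sub_self])
  refine ⟨d * t, d • s, UnitAt.mul hd ht, ?_⟩
  rw [Scheme.Modules.Hom.app_smul, mul_smul]
  rw [smul_sub, sub_eq_zero] at hd0
  exact hd0

section biproduct

theorem surjAt_biproduct_map {ξ : X} {W : X.Opens} (hξ : ξ ∈ W) {r : ℕ} {M N : X.Modules} (f : M ⟶ N)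
    (h : SurjAt ξ W f) :
    SurjAt ξ W (biproduct.map fun _ : Fin r => f) := fun y => by
  classical
  choose c x hc hx using fun k : Fin r => h ((biproduct.π (fun _ : Fin r => N) k).app W y)
  refine ⟨∏ k, c k, ∑ k, (biproduct.ι (fun _ : Fin r => M) k).app W ((∏ l ∈ Finset.univ.erase k, c l) • x k),
    Finset.prod_induction _ _ (fun _ _ => UnitAt.mul) (unitAt_one hξ) (fun a _ => hc a), ?_⟩
  refine H10Coh.biproduct_sections_ext _ W _ _ fun k => ?_
  rw [map_sum, map_sum, Finset.sum_eq_single k (fun l _ hlk => ?_) (fun h' => absurd (Finset.mem_univ k) h')]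
  · refine (congr($(congr(Scheme.Modules.Hom.app
      $(show biproduct.ι (fun _ : Fin r => M) k ≫ (biproduct.map fun _ : Fin r => f) ≫ biproduct.π _ k = f by simp) W))
      ((∏ l ∈ Finset.univ.erase k, c l) • x k))).trans ?_
    rw [Scheme.Modules.Hom.app_smul, hx, smul_smul, Finset.prod_erase_mul _ c (Finset.mem_univ k),
      Scheme.Modules.Hom.app_smul]
  · refine (congr($(congr(Scheme.Modules.Hom.app
      $(show biproduct.ι (fun _ : Fin r => M) l ≫ (biproduct.map fun _ : Fin r => f) ≫ biproduct.π _ k = 0 by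
        rw [biproduct.map_π, ← Category.assoc, biproduct.ι_π_ne _ hlk, zero_comp]) W)) _)).trans ?_
    rfl

theorem mono_biproduct_map {r : ℕ} {M N : X.Modules} (f : M ⟶ N) [Mono f] :
    Mono (biproduct.map fun _ : Fin r => f) := Preadditive.mono_of_cancel_zero _ fun g hg =>
  biproduct.hom_ext _ _ fun k => by
    rw [← cancel_mono f, Category.assoc, ← biproduct.map_π (fun _ : Fin r => f) k, ← Category.assoc, hg]
    simp

variable [IsNoetherian X]

theorem notMem_support_biproduct {r : ℕ} (M : Fin r → X.Modules) (hM : ∀ k, Coh.IsQCoh (M k)) {x : X}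
    (h : ∀ k, x ∉ CohB1.support (M k)) : x ∉ CohB1.support (⨁ M) := by
  classical
  haveI : ∀ k, (M k).IsQuasicoherent := hM
  obtain ⟨W, hW, hxW, -⟩ := exists_isAffineOpen_mem_and_subset (U := (⊤ : X.Opens)) (x := x) trivial
  refine notMem_support_of_smul hW hxW _ (H10Coh.isQuasicoherent_biproduct M) fun s => ?_
  choose c hc hc0 using fun k => exists_unitAt_smul_eq_zero hW hxW (M k) (hM k) (h k) ((biproduct.π M k).app W s)
  refine ⟨∏ k, c k, Finset.prod_induction _ _ (fun _ _ => UnitAt.mul) (unitAt_one hxW) (fun a _ => hc a), ?_⟩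
  refine H10Coh.biproduct_sections_ext M W _ _ fun k => ?_
  rw [map_zero, Scheme.Modules.Hom.app_smul, ← Finset.prod_erase_mul _ c (Finset.mem_univ k), mul_smul, hc0,
    smul_zero]

theorem isCoh_biproduct {r : ℕ} (A : X.Modules) (hA : Coh.IsCoh A) : Coh.IsCoh (⨁ fun _ : Fin r => A) := by
  haveI : A.IsQuasicoherent := hA.1
  refine (H10Coh.isCoh_iff_finite_sections _).2 ⟨H10Coh.isQuasicoherent_biproduct _, fun U hU => ?_⟩
  haveI := ((H10Coh.isCoh_iff_finite_sections A).1 hA).2 _ hU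
  let L : Γ(⨁ fun _ : Fin r => A, U) →ₗ[Γ(X, U)] (Fin r → Γ(A, U)) :=
    { toFun := fun y k => (biproduct.π (fun _ : Fin r => A) k).app U y
      map_add' := fun a b => funext fun k => map_add _ a b
      map_smul' := fun c a => funext fun k => Scheme.Modules.Hom.app_smul _ c a }
  haveI : IsNoetherianRing Γ(X, U) := IsLocallyNoetherian.component_noetherian ⟨U, hU⟩
  exact Module.Finite.of_injective L fun a b h => H10Coh.biproduct_sections_ext _ U a b fun k => congrFun h k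

end biproduct

theorem notMem_support_push {Z : Scheme.{u}} (i : Z ⟶ X) [IsClosedImmersion i] (M : Z.Modules) {x : X}
    (hx : x ∉ Set.range i) : x ∉ CohB1.support ((Coh.push i).obj M) := fun hs =>
  hs (subsingleton_of_forall_eq 0 fun a => by
    obtain ⟨U, hxU, t, rfl⟩ := TopCat.Presheaf.exists_germ_eq _ a
    let V : X.Opens := U ⊓ ⟨(Set.range i)ᶜ, i.isClosedEmbedding.isClosed_range.isOpen_compl⟩
    have hV : i ⁻¹ᵁ V = ⊥ := Opens.ext (Set.eq_empty_iff_forall_notMem.2 fun z hz => hz.2 ⟨z, rfl⟩)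
    haveI : Subsingleton Γ(Z, i ⁻¹ᵁ V) := by rw [hV]; infer_instance
    haveI : Subsingleton Γ(M, i ⁻¹ᵁ V) := Module.subsingleton Γ(Z, i ⁻¹ᵁ V) _
    let t' : Γ(M, i ⁻¹ᵁ V) := ((Coh.push i).obj M).presheaf.map (homOfLE (inf_le_left : V ≤ U)).op t
    have h0 : t' = 0 := Subsingleton.elim _ _
    rw [← TopCat.Presheaf.germ_res_apply _ (homOfLE (inf_le_left : V ≤ U)) x ⟨hxU, hx⟩]
    erw [show ((Coh.push i).obj M).presheaf.map (homOfLE (inf_le_left : V ≤ U)).op t = 0 from h0, map_zero])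

section integral

variable [IsNoetherian X] {Z : Scheme.{u}} (i : Z ⟶ X) [IsClosedImmersion i] [IsIntegral Z] {ξ : X}
  (hξ : i (genericPoint Z) = ξ)

include hξ

theorem killedAt_push (H : Z.Modules) {W : X.Opens} (hξW : ξ ∈ W) : KilledAt ξ W ((Coh.push i).obj H) :=
  fun a ha s => ⟨1, unitAt_one hξW, by
    have h0 : a • s = 0 := by
      show i.app W a • (show Γ(H, i ⁻¹ᵁ W) from s) = 0
      rw [(app_eq_zero_iff i hξ a).2 ha, zero_smul]
    rw [one_smul, h0]⟩

theorem mem_support_push_of_nontrivial (H : Z.Modules) (hH : Coh.IsCoh H)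
    (hn : Nontrivial (H.presheaf.stalk (genericPoint Z))) : ξ ∈ CohB1.support ((Coh.push i).obj H) := by
  by_contra hc
  obtain ⟨W, hW, hξW, -⟩ := exists_isAffineOpen_mem_and_subset (U := (⊤ : X.Opens)) (x := ξ) trivial
  haveI : H.IsQuasicoherent := hH.1
  have hη : genericPoint Z ∈ i ⁻¹ᵁ W := by show i _ ∈ W; rw [hξ]; exact hξW
  have h1 : genericPoint Z ∉ CohB1.support H :=
    notMem_support_of_smul (hW.preimage i) hη H hH.1 fun s => by
      obtain ⟨c, hc', hc0⟩ := exists_unitAt_smul_eq_zero hW hξW _ (H10Coh.isQuasicoherent_pushforward i H) hc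
        (show Γ((Coh.push i).obj H, W) from s)
      refine ⟨i.app W c, ?_, hc0⟩
      show genericPoint Z ∈ Z.basicOpen (i.app W c)
      rw [← Scheme.preimage_basicOpen]
      show i _ ∈ X.basicOpen c
      rw [hξ]; exact hc'
  exact not_nontrivial_iff_subsingleton.2 (not_not.1 h1) hn

variable (I : Z.Modules) (ι : I ⟶ Coh.structureModule Z) [hιm : Mono ι] (hI : Coh.IsQCoh I)

include ι hιm hI

theorem surjAt_push_map (hne : ¬ IsZero I) {W : X.Opens} (hW : IsAffineOpen W) (hξW : ξ ∈ W) :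
    SurjAt ξ W ((Coh.push i).map ι) := by
  haveI : I.IsQuasicoherent := hI
  obtain ⟨O, s, hs⟩ : ∃ (O : Z.Opens) (s : Γ(I, O)), s ≠ 0 := by
    by_contra hc
    push Not at hc
    exact hne (isZero_of_sections fun O s => hc O s)
  have hs' : ι.app O s ≠ 0 := fun h => hs (H10Coh.injective_app_of_mono' ι O (h.trans (map_zero _).symm))
  have hO : (O : Set Z).Nonempty := by
    by_contra hc
    have : O = ⊥ := Opens.ext (Set.not_nonempty_iff_eq_empty.1 hc)
    haveI : Subsingleton Γ(Z, O) := by rw [this]; infer_instance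
    exact hs' (Subsingleton.elim (α := Γ(Z, O)) _ _)
  have hη : genericPoint Z ∈ i ⁻¹ᵁ W := by show i _ ∈ W; rw [hξ]; exact hξW
  obtain ⟨f, hf, hηf⟩ := (hW.preimage i).exists_basicOpen_le (V := O) ⟨_, generic_mem i hξ hO⟩ hη
  obtain ⟨n, w, hw⟩ := H29Blow.exists_pow_smul_eq_res I hI (hW.preimage i) f (I.presheaf.map (homOfLE hf).op s)
  haveI : Nonempty ↥(Z.basicOpen f) := ⟨⟨_, hηf⟩⟩
  haveI : Nonempty ↥(Z.basicOpen f).toScheme := ⟨⟨_, hηf⟩⟩
  have hw0 : (ι.app (i ⁻¹ᵁ W) w : Γ(Z, i ⁻¹ᵁ W)) ≠ 0 := fun h0 => by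
    have e1 : ι.app (Z.basicOpen f) (I.presheaf.map (homOfLE (Z.basicOpen_le f)).op w) = 0 := by
      refine (congr($(ι.mapPresheaf.naturality (homOfLE (Z.basicOpen_le f)).op) w)).trans ?_
      show (Coh.structureModule Z).presheaf.map _ (ι.app _ w) = 0
      erw [h0, map_zero]
    rw [hw, Scheme.Modules.Hom.app_smul] at e1
    have hu : IsUnit (Z.presheaf.map (homOfLE (Z.basicOpen_le f)).op (f ^ n)) := by
      rw [map_pow]; exact (Z.toRingedSpace.isUnit_res_basicOpen f).pow n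
    have e2 : ι.app (Z.basicOpen f) (I.presheaf.map (homOfLE hf).op s) = 0 := hu.smul_eq_zero.1 e1
    have e3 : Z.presheaf.map (homOfLE hf).op (ι.app O s) = 0 :=
      (congr($(ι.mapPresheaf.naturality (homOfLE hf).op) s)).symm.trans e2
    haveI : Nonempty ↥O := ⟨⟨_, generic_mem i hξ hO⟩⟩
    haveI : Nonempty ↥O.toScheme := ⟨⟨_, generic_mem i hξ hO⟩⟩
    exact hs' (map_injective_of_isIntegral (X := Z) (homOfLE hf) (e3.trans (map_zero _).symm))
  obtain ⟨a, ha⟩ := Scheme.Hom.app_surjective i W hW (ι.app (i ⁻¹ᵁ W) w)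
  have haξ : UnitAt ξ W a := by
    by_contra hc
    exact hw0 (ha.symm.trans ((app_eq_zero_iff i hξ a).2 hc))
  intro y
  let y' : Γ(Z, i ⁻¹ᵁ W) := y
  refine ⟨a, (show Γ((Coh.push i).obj I, W) from y' • w), haξ, ?_⟩
  show ι.app (i ⁻¹ᵁ W) (y' • w) = (i.app W a * y' : Γ(Z, i ⁻¹ᵁ W))
  rw [Scheme.Modules.Hom.app_smul, ha]
  exact mul_comm (G := Γ(Z, i ⁻¹ᵁ W)) _ _

theorem mem_support_push (hne : ¬ IsZero I) : ξ ∈ CohB1.support ((Coh.push i).obj I) := by
  obtain ⟨W, hW, hξW, -⟩ := exists_isAffineOpen_mem_and_subset (U := (⊤ : X.Opens)) (x := ξ) trivial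
  intro hs
  haveI : I.IsQuasicoherent := hI
  have hns : ξ ∉ CohB1.support ((Coh.push i).obj I) := not_not.2 hs
  obtain ⟨c, x, hc, hx⟩ := surjAt_push_map i hξ I ι hI hne hW hξW
    (show Γ((Coh.push i).obj (Coh.structureModule Z), W) from (1 : Γ(Z, i ⁻¹ᵁ W)))
  obtain ⟨d, hd, hd0⟩ := exists_unitAt_smul_eq_zero hW hξW _ (H10Coh.isQuasicoherent_pushforward i I) hns x
  have := congrArg (d • ·) hx
  simp only [← Scheme.Modules.Hom.app_smul, hd0, map_zero] at this
  have h2 : i.app W (d * c) = 0 := (mul_one (i.app W (d * c))).symm.trans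
    ((show i.app W (d * c) * 1 = i.app W d * (i.app W c * 1) by rw [map_mul, mul_assoc]).trans this.symm)
  exact (app_eq_zero_iff i hξ _).1 h2 (hd.mul hc)

omit hI in
/-- The step at a generic point: `P` holds for a power of `i_* I`. -/
theorem key_step (hI : Coh.IsQCoh I) (P : X.Modules → Prop)
    (h₀ : ∀ M : X.Modules, IsZero M → P M)
    (hsmall : ∀ M, Coh.IsCoh M → CohB1.support M ⊆ Set.range i → ξ ∉ CohB1.support M → P M)
    (hext : ∀ S : ShortComplex X.Modules, S.ShortExact → Coh.IsCoh S.X₁ → Coh.IsCoh S.X₂ → Coh.IsCoh S.X₃ →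
      CohB1.support S.X₂ ⊆ Set.range i → P S.X₁ → P S.X₃ → P S.X₂)
    {W : X.Opens} (hW : IsAffineOpen W) (hξW : ξ ∈ W) (G : X.Modules) (hG : Coh.IsCoh G)
    (hsupp : ξ ∈ CohB1.support G) (hkill : KilledAt ξ W G)
    (hG' : ∀ J : X.IdealSheafData, ξ ∉ (J.support : Set X) →
      ∃ (G' : X.Modules) (ι' : G' ⟶ (Dual3.idealMul J).obj G), Mono ι' ∧ Coh.IsCoh G' ∧
        SurjAt ξ W (ι' ≫ Dual3.idealMulι J G) ∧ P G') :
    ∃ r : ℕ, 1 ≤ r ∧ (CyclicAt ξ W G → r = 1) ∧ Coh.IsCoh ((Coh.push i).obj I) ∧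
      P (⨁ fun _ : Fin r => (Coh.push i).obj I) := by
  classical
  haveI : I.IsQuasicoherent := hI
  haveI : Mono ((Coh.push i).map ι) := inferInstance
  have hIc : Coh.IsCoh ((Coh.push i).obj I) :=
    H10Coh.isCoh_of_mono ((Coh.push i).map ι) (H10Coh.isQuasicoherent_pushforward i I) (isCoh_push_structure i)
  obtain ⟨r, hr, hcyc, hB⟩ := exists_generic i hξ hW hξW G hG hsupp hkill
  refine ⟨r, hr, hcyc, hIc, ?_⟩
  by_cases hz : IsZero I
  · exact h₀ _ ((IsZero.iff_id_eq_zero _).2 (biproduct.hom_ext _ _ fun k =>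
      ((Coh.push i).map_isZero hz).eq_of_tgt _ _))
  have hBc : Coh.IsCoh (⨁ fun _ : Fin r => (Coh.push i).obj I) := isCoh_biproduct _ hIc
  obtain ⟨J, hJ, hJμ⟩ := hB _ (biproduct.map fun _ : Fin r => (Coh.push i).map ι)
    (mono_biproduct_map _) hBc (surjAt_biproduct_map hξW _ (surjAt_push_map i hξ I ι hI hz hW hξW))
  obtain ⟨G', ι', hι', hG'c, hsur, hPG'⟩ := hG' J hJ
  obtain ⟨μ, hμ, hμs⟩ := hJμ G' ι' hι' hsur
  haveI := hμ
  have hBs : CohB1.support (⨁ fun _ : Fin r => (Coh.push i).obj I) ⊆ Set.range i := fun x hx => by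
    by_contra hxr
    exact notMem_support_biproduct _ (fun _ => hIc.1) (fun _ => notMem_support_push i I hxr) hx
  have hS : (ShortComplex.mk μ (cokernel.π μ) (cokernel.condition μ)).ShortExact :=
    ShortComplex.ShortExact.mk' (ShortComplex.exact_cokernel μ) inferInstance inferInstance
  have hCc : Coh.IsCoh (cokernel μ) := H10Coh.isCoh_cokernel μ hG'c.1 hBc
  exact hext _ hS hG'c hBc hCc hBs hPG' (hsmall _ hCc ((support_subset_of_epi (cokernel.π μ)).trans hBs)
    (notMem_support_cokernel μ hG'c.1 hBc.1 hW hξW hμs))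

end integral

section noetherian

variable [IsNoetherian X]

theorem range_subset_of_support (Z : Scheme.{u}) (i : Z ⟶ X) (hi : IsClosedImmersion i) (hZ : IsIntegral Z)
    (I : Z.Modules) (ι : I ⟶ Coh.structureModule Z) (hι : Mono ι) (hI : Coh.IsQCoh I) (hne : ¬ IsZero I)
    (C : Set X) (h : CohB1.support ((Coh.push i).obj I) ⊆ C) : Set.range i ⊆ C := by
  refine Set.Subset.trans ?_ h
  rw [range_eq_closure i (ξ := i (genericPoint Z)) rfl]
  haveI : I.IsQuasicoherent := hI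
  have hc := H10Coh.isCoh_of_mono ((Coh.push i).map ι) (H10Coh.isQuasicoherent_pushforward i I) (isCoh_push_structure i)
  exact (H10Coh.isClosed_support _ hc.2).closure_subset_iff.2
    (Set.singleton_subset_iff.2 (mem_support_push i rfl I ι hI hne))

/-- Dévissage below an irreducible closed subset. -/
theorem devissage_irreducible (Z₀ : Set X) (ξ : X) (hξ : ξ ∈ Z₀ ∧ closure {ξ} = Z₀)
    (P : X.Modules → Prop) (hP : ∀ M N : X.Modules, Nonempty (M ≅ N) → P M → P N)
    (h₀ : ∀ M : X.Modules, IsZero M → P M)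
    (hext : ∀ S : ShortComplex X.Modules, S.ShortExact → Coh.IsCoh S.X₁ → Coh.IsCoh S.X₂ → Coh.IsCoh S.X₃ →
      CohB1.support S.X₂ ⊆ Z₀ → P S.X₁ → P S.X₃ → P S.X₂)
    (hlow : ∀ (Z : Scheme.{u}) (i : Z ⟶ X), IsClosedImmersion i → IsIntegral Z →
      Set.range i ⊆ Z₀ → Set.range i ≠ Z₀ →
      ∀ (I : Z.Modules) (ι : I ⟶ Coh.structureModule Z), Mono ι → Coh.IsQCoh I → P ((Coh.push i).obj I))
    (hmain : (∀ M, Coh.IsCoh M → CohB1.support M ⊆ Z₀ → ξ ∉ CohB1.support M → P M) →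
      ∀ (Z : Scheme.{u}) (i : Z ⟶ X) [IsClosedImmersion i] [IsIntegral Z],
      i (genericPoint Z) = ξ → Set.range i = Z₀ →
      ∀ (I : Z.Modules) (ι : I ⟶ Coh.structureModule Z) [Mono ι], Coh.IsQCoh I → P ((Coh.push i).obj I))
    (M : X.Modules) (hM : Coh.IsCoh M) (hsupp : CohB1.support M ⊆ Z₀) : P M := by
  let Q : X.Modules → Prop := fun M => CohB1.support M ⊆ Z₀ → P M
  have hQ : ∀ M N : X.Modules, Nonempty (M ≅ N) → Q M → Q N := fun M N ⟨e⟩ h hs =>
    hP M N ⟨e⟩ (h ((support_subset_of_iso e).trans hs))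
  have hQ₁ : ∀ S : ShortComplex X.Modules, S.ShortExact → Coh.IsCoh S.X₁ → Coh.IsCoh S.X₂ →
      Coh.IsCoh S.X₃ → Q S.X₁ → Q S.X₃ → Q S.X₂ := fun S hS h1 h2 h3 q1 q3 hs => by
    haveI := hS.mono_f
    haveI := hS.epi_g
    exact hext S hS h1 h2 h3 hs (q1 ((support_subset_of_mono S.f).trans hs))
      (q3 ((support_subset_of_epi S.g).trans hs))
  have hsmall : ∀ M, Coh.IsCoh M → CohB1.support M ⊆ Z₀ → ξ ∉ CohB1.support M → P M := fun N hN hNs hξN =>
    devissage Q hQ (fun M hM _ => h₀ M hM) hQ₁ (CohB1.support N)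
      (fun Z i hi hZ hr I ι hι hI _ => hlow Z i hi hZ (hr.trans hNs)
        (fun he => hξN (hr (he ▸ hξ.1))) I ι hι hI)
      (fun Z i hi hZ I ι hι hI hne h => range_subset_of_support Z i hi hZ I ι hι hI hne _ h)
      N hN Set.Subset.rfl hNs
  refine devissage Q hQ (fun M hM _ => h₀ M hM) hQ₁ Z₀ (fun Z i hi hZ hr I ι hι hI _ => ?_)
    (fun Z i hi hZ I ι hι hI hne h => range_subset_of_support Z i hi hZ I ι hι hI hne _ h) M hM hsupp hsupp
  by_cases he : Set.range i = Z₀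
  · refine hmain hsmall Z i ?_ he I ι hI
    have h1 : IsGenericPoint (i (genericPoint Z)) Z₀ := (range_eq_closure i (ξ := i (genericPoint Z)) rfl).symm.trans he
    exact h1.eq hξ.2
  · exact hlow Z i hi hZ hr he I ι hι hI

/-- Dévissage by Noetherian induction on the closed subset. -/
theorem devissage_induction (X' : Set X) (P : X.Modules → Prop)
    (hP : ∀ M N : X.Modules, Nonempty (M ≅ N) → P M → P N)
    (h₀ : ∀ M : X.Modules, IsZero M → P M)
    (hext : ∀ S : ShortComplex X.Modules, S.ShortExact → Coh.IsCoh S.X₁ → Coh.IsCoh S.X₂ → Coh.IsCoh S.X₃ →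
      P S.X₁ → P S.X₃ → P S.X₂)
    (hmain : ∀ (Z : Scheme.{u}) (i : Z ⟶ X) [IsClosedImmersion i] [IsIntegral Z], Set.range i ⊆ X' →
      (∀ M, Coh.IsCoh M → CohB1.support M ⊆ Set.range i → i (genericPoint Z) ∉ CohB1.support M → P M) →
      ∀ (I : Z.Modules) (ι : I ⟶ Coh.structureModule Z) [Mono ι], Coh.IsQCoh I → P ((Coh.push i).obj I))
    (M : X.Modules) (hM : Coh.IsCoh M) (hsupp : CohB1.support M ⊆ X') : P M := by
  refine devissage P hP h₀ hext X' (fun Z i hi hZ hr I ι hι hI => ?_)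
    (fun Z i hi hZ I ι hι hI hne h => range_subset_of_support Z i hi hZ I ι hι hI hne _ h) M hM hsupp
  suffices h : ∀ (C : Closeds X) (Z : Scheme.{u}) (i : Z ⟶ X) [IsClosedImmersion i] [IsIntegral Z],
      Set.range i = (C : Set X) → (C : Set X) ⊆ X' →
      ∀ (I : Z.Modules) (ι : I ⟶ Coh.structureModule Z) [Mono ι], Coh.IsQCoh I → P ((Coh.push i).obj I) from
    h ⟨Set.range i, i.isClosedEmbedding.isClosed_range⟩ Z i rfl hr I ι hI
  clear hM hsupp hr hι hI ι I hZ hi i Z M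
  intro C
  induction C using WellFoundedLT.induction with
  | _ C ih =>
    intro Z i _ _ hC hCX I ι _ hI
    refine hmain Z i (hC ▸ hCX) (fun N hN hNs hξN => ?_) I ι hI
    refine devissage P hP h₀ hext (CohB1.support N) (fun Z' i' hi' hZ' hr' I' ι' hι' hI' => ?_)
      (fun Z' i' hi' hZ' I' ι' hι' hI' hne h => range_subset_of_support Z' i' hi' hZ' I' ι' hι' hI' hne _ h)
      N hN Set.Subset.rfl
    have hsub : Set.range i' ⊆ (C : Set X) := (hr'.trans hNs).trans hC.le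
    refine ih ⟨Set.range i', i'.isClosedEmbedding.isClosed_range⟩ (lt_of_le_of_ne hsub fun he => ?_) Z' i' rfl
      (hsub.trans hCX) I' ι' hI'
    have he' : Set.range i' = (C : Set X) := congrArg SetLike.coe he
    exact hξN (hr' (he' ▸ hC ▸ ⟨_, rfl⟩))

/-- `P` passes to `J G` when it holds for `G`. -/
theorem exists_sub_of_left (P : X.Modules → Prop) (C : Set X) {G : X.Modules} (hG : Coh.IsCoh G) {ξ : X}
    (hGC : CohB1.support G ⊆ C) (hPG : P G)
    (hsmall : ∀ M, Coh.IsCoh M → CohB1.support M ⊆ C → ξ ∉ CohB1.support M → P M)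
    (hleft : ∀ S : ShortComplex X.Modules, S.ShortExact → Coh.IsCoh S.X₁ → Coh.IsCoh S.X₂ → Coh.IsCoh S.X₃ →
      CohB1.support S.X₂ ⊆ C → P S.X₂ → P S.X₃ → P S.X₁)
    {W : X.Opens} (hW : IsAffineOpen W) (hξW : ξ ∈ W) (J : X.IdealSheafData) (hJ : ξ ∉ (J.support : Set X)) :
    ∃ (G' : X.Modules) (ι' : G' ⟶ (Dual3.idealMul J).obj G), Mono ι' ∧ Coh.IsCoh G' ∧
      SurjAt ξ W (ι' ≫ Dual3.idealMulι J G) ∧ P G' := by
  have hJG := isCoh_idealMul J G hG
  have hsur := surjAt_idealMulι J G hG hJ ⟨W, hW⟩ hξW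
  have hS : (ShortComplex.mk (Dual3.idealMulι J G) (cokernel.π _) (cokernel.condition _)).ShortExact :=
    ShortComplex.ShortExact.mk' (ShortComplex.exact_cokernel _) inferInstance inferInstance
  have hQ := H10Coh.isCoh_cokernel (Dual3.idealMulι J G) hJG.1 hG
  exact ⟨_, 𝟙 _, inferInstance, hJG, by rwa [Category.id_comp],
    hleft _ hS hJG hG hQ hGC hPG (hsmall _ hQ ((support_subset_of_epi (cokernel.π _)).trans hGC)
      (notMem_support_cokernel _ hJG.1 hG.1 hW hξW hsur))⟩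

end noetherian

/-- A one term power. -/
theorem of_power_one {P : X.Modules → Prop} (hP : ∀ M N : X.Modules, Nonempty (M ≅ N) → P M → P N)
    {A : X.Modules} {r : ℕ} (hr : r = 1) (h : P (⨁ fun _ : Fin r => A)) : P A := by
  subst hr
  refine hP _ _ ⟨⟨biproduct.π _ 0, biproduct.ι (fun _ : Fin 1 => A) 0, ?_, biproduct.ι_π_self _ 0⟩⟩ h
  have := biproduct.total (f := fun _ : Fin 1 => A)
  rwa [Fin.sum_univ_one] at this

/-- `P` holds for zero when it is closed under kernels of epimorphisms and holds somewhere. -/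
theorem zero_of_left {P : X.Modules → Prop} [IsNoetherian X] {G : X.Modules} (hG : Coh.IsCoh G)
    (hleft : ∀ S : ShortComplex X.Modules, S.ShortExact → Coh.IsCoh S.X₁ → Coh.IsCoh S.X₂ → Coh.IsCoh S.X₃ →
      CohB1.support S.X₂ ⊆ CohB1.support G → P S.X₂ → P S.X₃ → P S.X₁)
    (hPG : P G) (N : X.Modules) (hN : IsZero N) : P N := by
  haveI : Mono (0 : N ⟶ G) := ⟨fun g h _ => hN.eq_of_tgt g h⟩
  have hS : (ShortComplex.mk (0 : N ⟶ G) (𝟙 G) zero_comp).ShortExact :=
    ShortComplex.ShortExact.mk' ((ShortComplex.exact_iff_mono _ rfl).2 (inferInstanceAs (Mono (𝟙 G))))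
      inferInstance inferInstance
  exact hleft _ hS (isCoh_of_isZero hN) hG hG Set.Subset.rfl hPG hPG

end Groth.Agent.LeadDev
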