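import Groth.Agent.LeadDev.Sub
import Mathlib.Data.DFinsupp.WellFounded

/-!
# Filtrations of coherent modules by direct images of ideal sheaves
-/

set_option autoImplicit false
set_option linter.style.haveILetI false
set_option linter.unusedSectionVars false

universe u

open CategoryTheory CategoryTheory.Limits AlgebraicGeometry Opposite TopologicalSpace
open scoped ZeroObject

namespace Groth.Agent.LeadDev

variable {X : Scheme.{u}}

/-- `N` has a finite filtration with quotients direct images of ideals of integral closed subschemes. -/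
inductive Filt : X.Modules → Prop
  | zero (N : X.Modules) (h : IsZero N) (hc : Coh.IsCoh N) : Filt N
  | step (N N' : X.Modules) (φ : N ⟶ N') (hN : Filt N) (hm : Mono φ) (hc : Coh.IsCoh N')
      (hq : ∃ (Z : Scheme.{u}) (i : Z ⟶ X), IsClosedImmersion i ∧ IsIntegral Z ∧
        ∃ (I : Z.Modules) (ι : I ⟶ Coh.structureModule Z), Mono ι ∧ Coh.IsQCoh I ∧ ¬ IsZero I ∧
          Nonempty (cokernel φ ≅ (Coh.push i).obj I)) : Filt N'

theorem Filt.isCoh {N : X.Modules} (h : Filt N) : Coh.IsCoh N := by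
  cases h with
  | zero N h hc => exact hc
  | step N N' φ hN hm hc hq => exact hc

section noetherian

variable [IsNoetherian X]

theorem isCoh_of_isZero {N : X.Modules} (h : IsZero N) : Coh.IsCoh N := by
  refine (H10Coh.isCoh_iff_finite_sections N).2 ⟨H10Coh.isQuasicoherent_zero N h, fun U _ => ?_⟩
  haveI : Subsingleton Γ(N, U) := ⟨fun a b => by
    rw [show a = 0 from congr($(congr(Scheme.Modules.Hom.app $(h.eq_of_src (𝟙 N) 0) U)) a),
      show b = 0 from congr($(congr(Scheme.Modules.Hom.app $(h.eq_of_src (𝟙 N) 0) U)) b)]⟩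
  infer_instance

theorem mono_of_injective_sections {A B : X.Modules} (f : A ⟶ B)
    (h : ∀ U : X.Opens, Function.Injective (f.app U)) : Mono f := by
  refine Preadditive.mono_of_cancel_zero _ fun {T} s hs => Scheme.Modules.hom_ext _ _ fun U => ?_
  ext x
  exact h U ((congr($(congr(Scheme.Modules.Hom.app $hs U)) x)).trans (map_zero _).symm)

theorem app_smul_range {A M : X.Modules} (f : A ⟶ M) (U : X.Opens) :
    ∃ P : Submodule Γ(X, U) Γ(M, U), ∀ x, x ∈ P ↔ ∃ y, f.app U y = x := by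
  refine ⟨{
    carrier := Set.range (f.app U)
    add_mem' := by rintro _ _ ⟨a, rfl⟩ ⟨b, rfl⟩; exact ⟨a + b, map_add _ _ _⟩
    zero_mem' := ⟨0, map_zero _⟩
    smul_mem' := by rintro r _ ⟨a, rfl⟩; exact ⟨r • a, Scheme.Modules.Hom.app_smul f r a⟩ }, fun x => Iff.rfl⟩

/-- Coherent submodules satisfy the ascending chain condition. -/
theorem exists_maximal_sub (M : X.Modules) (hM : Coh.IsCoh M) (P : ∀ (N : X.Modules), (N ⟶ M) → Prop)
    (hP : ∀ N f, P N f → Mono f ∧ Coh.IsCoh N) (hne : ∃ N f, P N f) :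
    ∃ N f, P N f ∧ ∀ N' (f' : N' ⟶ M) (φ : N ⟶ N'), P N' f' → φ ≫ f' = f → Epi φ := by
  classical
  haveI : CompactSpace X := inferInstance
  obtain ⟨k, U, hU, -, hcov⟩ := H10Coh.exists_finite_affine_cover (W := (⊤ : X.Opens)) isCompact_univ
  haveI : ∀ a, IsNoetherianRing Γ(X, U a) := fun a => IsLocallyNoetherian.component_noetherian ⟨U a, hU a⟩
  haveI : ∀ a, Module.Finite Γ(X, U a) Γ(M, U a) := fun a =>
    ((H10Coh.isCoh_iff_finite_sections M).1 hM).2 _ (hU a)
  haveI : ∀ a, WellFoundedGT (Submodule Γ(X, U a) Γ(M, U a)) := fun a =>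
    isNoetherian_iff'.1 (isNoetherian_of_isNoetherianRing_of_finite Γ(X, U a) Γ(M, U a))
  haveI : WellFoundedGT (∀ a, Submodule Γ(X, U a) Γ(M, U a)) :=
    ⟨(Pi.wellFoundedLT (α := fun a => (Submodule Γ(X, U a) Γ(M, U a))ᵒᵈ)).wf⟩
  choose R hR using fun (N : X.Modules) (f : N ⟶ M) (a : Fin k) => app_smul_range f (U a)
  let S : Set (∀ a, Submodule Γ(X, U a) Γ(M, U a)) := {s | ∃ N f, P N f ∧ s = R N f}
  obtain ⟨N₀, f₀, h₀⟩ := hne
  obtain ⟨_, ⟨N, f, hNf, rfl⟩, hmax⟩ := (wellFounded_gt (α := ∀ a, Submodule Γ(X, U a) Γ(M, U a))).has_min S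
    ⟨_, N₀, f₀, h₀, rfl⟩
  refine ⟨N, f, hNf, fun N' f' φ hP' hfac => ?_⟩
  obtain ⟨hfm, hNc⟩ := hP N f hNf
  obtain ⟨hfm', hNc'⟩ := hP N' f' hP'
  haveI := hfm'
  have hle : R N f ≤ R N' f' := fun a x hx => by
    obtain ⟨y, rfl⟩ := (hR N f a x).1 hx
    refine (hR N' f' a _).2 ⟨φ.app (U a) y, ?_⟩
    rw [← hfac]; rfl
  have heq : R N f = R N' f' := le_antisymm hle (by
    by_contra hc
    exact hmax _ ⟨N', f', hP', rfl⟩ (lt_of_le_not_ge hle hc))
  haveI : N.IsQuasicoherent := hNc.1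
  haveI : N'.IsQuasicoherent := hNc'.1
  haveI : (cokernel φ).IsQuasicoherent := H10Coh.isQuasicoherent_cokernel φ
  refine Preadditive.epi_of_cokernel_zero ((isZero_of_sections fun W s => ?_).eq_of_tgt _ _)
  refine TopCat.Sheaf.eq_of_locally_eq' (H10Coh.sheafOf (cokernel φ))
    (fun V : {V : X.Opens // IsAffineOpen V ∧ V ≤ W ∧ ∃ a, V ≤ U a} => V.1) W (fun V => homOfLE V.2.2.1) ?_ _ _
    fun V => ?_
  · intro x hx
    obtain ⟨a, hxa⟩ := Opens.mem_iSup.1 (hcov (Opens.mem_top x))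
    obtain ⟨V, hV, hxV, hle'⟩ := exists_isAffineOpen_mem_and_subset (U := W ⊓ U a) (x := x) ⟨hx, hxa⟩
    exact Opens.mem_iSup.2 ⟨⟨V, hV, fun y hy => (hle' hy).1, a, fun y hy => (hle' hy).2⟩, hxV⟩
  · refine Eq.trans ?_ (map_zero _).symm
    obtain ⟨a, hVa⟩ := V.2.2.2
    -- sections of `N'` over `U a` come from `N`
    have hsurj : Function.Surjective (φ.app (U a)) := fun y => by
      obtain ⟨z, hz⟩ := (hR N f a _).1 (heq.symm.le a ((hR N' f' a _).2 ⟨y, rfl⟩))
      refine ⟨z, H10Coh.injective_app_of_mono' f' (U a) ?_⟩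
      rw [← hz, ← hfac]; rfl
    set c := (cokernel φ).presheaf.map (homOfLE V.2.2.1).op s
    show c = 0
    refine TopCat.Sheaf.eq_of_locally_eq' (H10Coh.sheafOf (cokernel φ))
      (fun r : {r : Γ(X, U a) // X.basicOpen r ≤ V.1} => X.basicOpen r.1) V.1 (fun r => homOfLE r.2) ?_ _ _ fun r => ?_
    · intro x hx
      obtain ⟨r, hr, hxr⟩ := (hU a).exists_basicOpen_le ⟨x, hx⟩ (hVa hx)
      exact Opens.mem_iSup.2 ⟨⟨r, hr⟩, hxr⟩
    · refine Eq.trans ?_ (map_zero _).symm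
      obtain ⟨n, w, hw⟩ := H29Blow.exists_pow_smul_eq_res (cokernel φ) inferInstance (hU a) r.1
        ((cokernel φ).presheaf.map (homOfLE r.2).op c)
      obtain ⟨t, ht⟩ := H10Coh.surjective_app_of_epi (cokernel.π φ) (hU a) w
      obtain ⟨z, rfl⟩ := hsurj t
      have h0 : w = 0 := ht.symm.trans congr($(congr(Scheme.Modules.Hom.app $(cokernel.condition φ) (U a))) z)
      rw [h0, map_zero] at hw
      have hu : IsUnit (X.presheaf.map (homOfLE (X.basicOpen_le r.1)).op r.1) :=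
        X.toRingedSpace.isUnit_res_basicOpen r.1
      show ((cokernel φ).presheaf.map (homOfLE r.2).op c : Γ(cokernel φ, X.basicOpen r.1)) = 0
      have hu' : IsUnit (X.presheaf.map (homOfLE (X.basicOpen_le r.1)).op (r.1 ^ n)) := by
        rw [map_pow]; exact hu.pow n
      exact hu'.smul_eq_zero.1 hw.symm

theorem exists_filt (M : X.Modules) (hM : Coh.IsCoh M) :
    ∃ N : X.Modules, Filt N ∧ Nonempty (N ≅ M) := by
  have hZ : IsZero (0 : X.Modules) := isZero_zero _
  obtain ⟨N, f, ⟨hN, hf⟩, hmax⟩ := exists_maximal_sub M hM (fun N f => Filt N ∧ Mono f)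
    (fun N f h => ⟨h.2, h.1.isCoh⟩)
    ⟨0, 0, Filt.zero _ hZ (isCoh_of_isZero hZ), ⟨fun g h _ => hZ.eq_of_tgt g h⟩⟩
  haveI := hf
  by_cases hz : IsZero (cokernel f)
  · haveI : Epi f := Preadditive.epi_of_cokernel_zero (hz.eq_of_tgt _ _)
    haveI := isIso_of_mono_of_epi f
    exact ⟨N, hN, ⟨asIso f⟩⟩
  exfalso
  obtain ⟨Z, i, hi, hZi, I, ι, hι, hIq, hI0, g, hg⟩ :=
    hasPrimeSub (cokernel f) (H10Coh.isCoh_cokernel f hN.isCoh.1 hM) hz
  haveI := hg
  -- the preimage of the image of `g`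
  let d : M ⟶ cokernel g := cokernel.π f ≫ cokernel.π g
  let N' := kernel d
  have hN'c : Coh.IsCoh N' := by
    refine H10Coh.isCoh_kernel d hM ?_
    haveI : (cokernel f).IsQuasicoherent := (H10Coh.isCoh_cokernel f hN.isCoh.1 hM).1
    haveI : I.IsQuasicoherent := hIq
    haveI : ((Coh.push i).obj I).IsQuasicoherent := H10Coh.isQuasicoherent_pushforward i I
    exact H10Coh.isQuasicoherent_cokernel g
  let φ : N ⟶ N' := kernel.lift d f (by simp [d])
  haveI : Mono φ := mono_of_mono_fac (kernel.lift_ι d f _)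
  have hlim : IsLimit (KernelFork.ofι g (cokernel.condition g)) := Abelian.monoIsKernelOfCokernel (CokernelCofork.ofπ (cokernel.π g) (cokernel.condition g)) (cokernelIsCokernel g)
  let ψ : N' ⟶ (Coh.push i).obj I := hlim.lift (KernelFork.ofι (kernel.ι d ≫ cokernel.π f) (by
    rw [Category.assoc]; exact kernel.condition d))
  have hψ : ψ ≫ g = kernel.ι d ≫ cokernel.π f := hlim.fac _ WalkingParallelPair.zero
  have hφψ : φ ≫ ψ = 0 := by
    rw [← cancel_mono g, Category.assoc, hψ, ← Category.assoc, kernel.lift_ι, cokernel.condition, zero_comp]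
  haveI : Epi ψ := by
    have hp : IsPullback (kernel.ι d) ψ (cokernel.π f) g := by
      refine IsPullback.of_isLimit (PullbackCone.IsLimit.mk hψ.symm
        (fun s => kernel.lift d s.fst (by
          show s.fst ≫ cokernel.π f ≫ cokernel.π g = 0
          rw [← Category.assoc, s.condition, Category.assoc, cokernel.condition, comp_zero]))
        (fun s => kernel.lift_ι _ _ _) (fun s => ?_) (fun s m h₁ _ => ?_))
      · rw [← cancel_mono g, Category.assoc, hψ, kernel.lift_ι_assoc, s.condition]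
      · rw [← cancel_mono (kernel.ι d), kernel.lift_ι, h₁]
    exact Abelian.epi_snd_of_isLimit (cokernel.π f) g hp.isLimit
  have hker : IsLimit (KernelFork.ofι f (cokernel.condition f)) :=
    Abelian.monoIsKernelOfCokernel (CokernelCofork.ofπ (cokernel.π f) (cokernel.condition f)) (cokernelIsCokernel f)
  have hex : (ShortComplex.mk φ ψ hφψ).ShortExact := by
    refine ShortComplex.ShortExact.mk' (ShortComplex.exact_of_f_is_kernel _ ?_) inferInstance inferInstance
    refine KernelFork.IsLimit.ofι' φ hφψ fun {W} k hk => ?_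
    obtain ⟨l, hl⟩ := KernelFork.IsLimit.lift' hker (k ≫ kernel.ι d) (by
      show (k ≫ kernel.ι d) ≫ cokernel.π f = 0
      rw [Category.assoc, ← hψ, ← Category.assoc, hk, zero_comp])
    refine ⟨l, ?_⟩
    rw [← cancel_mono (kernel.ι d), Category.assoc, kernel.lift_ι]
    exact hl
  let e : cokernel φ ≅ (Coh.push i).obj I := IsColimit.coconePointUniqueUpToIso (cokernelIsCokernel φ) hex.gIsCokernel
  have hN' : Filt N' := Filt.step N N' φ hN inferInstance hN'c ⟨Z, i, hi, hZi, I, ι, hι, hIq, hI0, ⟨e⟩⟩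
  haveI := hmax N' (kernel.ι d) φ ⟨hN', inferInstance⟩ (kernel.lift_ι d f _)
  have hψ0 : ψ = 0 := by rw [← cancel_epi φ, hφψ, comp_zero]
  have hP0 : IsZero ((Coh.push i).obj I) :=
    (IsZero.iff_id_eq_zero _).2 (by rw [← cancel_epi ψ, hψ0, zero_comp, zero_comp])
  refine hI0 (isZero_of_sections (X := Z) fun V s => ?_)
  obtain ⟨W, hW, hWV⟩ := (i.isEmbedding.isInducing.isOpen_iff).1 V.2
  have hWV' : i ⁻¹ᵁ ⟨W, hW⟩ = V := Opens.ext hWV
  have hall : ∀ t : Γ((Coh.push i).obj I, ⟨W, hW⟩), t = 0 := fun t =>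
    congr($(congr(Scheme.Modules.Hom.app $(hP0.eq_of_src (𝟙 ((Coh.push i).obj I)) 0) ⟨W, hW⟩)) t)
  have h := hall (I.presheaf.map (eqToHom hWV').op s)
  exact (ConcreteCategory.bijective_of_isIso (I.presheaf.map (eqToHom hWV').op)).1 (h.trans (map_zero _).symm)

theorem exists_chain {N : X.Modules} (h : Filt N) :
    ∃ (m : ℕ) (F : ℕ → X.Modules) (φ : (j : ℕ) → (F j ⟶ F (j + 1))),
      IsZero (F 0) ∧ F m = N ∧ (∀ j ≤ m, Coh.IsCoh (F j)) ∧ ∀ j < m, Mono (φ j) ∧
        ∃ (Z : Scheme.{u}) (i : Z ⟶ X), IsClosedImmersion i ∧ IsIntegral Z ∧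
          ∃ (I : Z.Modules) (ι : I ⟶ Coh.structureModule Z), Mono ι ∧ Coh.IsQCoh I ∧ ¬ IsZero I ∧
            Nonempty (cokernel (φ j) ≅ (Coh.push i).obj I) := by
  classical
  induction h with
  | zero N h hc =>
    exact ⟨0, fun _ => N, fun _ => 𝟙 N, h, rfl, fun _ _ => hc, fun j hj => absurd hj (Nat.not_lt_zero j)⟩
  | step N N' ψ hN hm hc hq ih =>
    obtain ⟨m, F, φ, h0, hFm, hcoh, hstep⟩ := ih
    let F' : ℕ → X.Modules := fun j => if j ≤ m then F j else N'
    have e1 : ∀ {j}, j ≤ m → F' j = F j := fun hj => if_pos hj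
    have e2 : ∀ {j}, ¬ j ≤ m → F' j = N' := fun hj => if_neg hj
    let φ' : ∀ j, F' j ⟶ F' (j + 1) := fun j =>
      if h : j + 1 ≤ m then eqToHom (e1 ((Nat.le_succ j).trans h)) ≫ φ j ≫ eqToHom (e1 h).symm
      else if h' : j = m then eqToHom ((e1 h'.le).trans (h' ▸ hFm)) ≫ ψ ≫ eqToHom (e2 h).symm
      else 0
    refine ⟨m + 1, F', φ', by rw [e1 (Nat.zero_le m)]; exact h0, e2 (by omega), fun j hj => ?_, fun j hj => ?_⟩
    · by_cases hjm : j ≤ m
      · rw [e1 hjm]; exact hcoh j hjm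
      · rw [e2 hjm]; exact hc
    · by_cases hjm : j + 1 ≤ m
      · obtain ⟨hmono, Z, i, hi, hZ, I, ι, hι, hI, hI0, ⟨e⟩⟩ := hstep j hjm
        refine ⟨?_, Z, i, hi, hZ, I, ι, hι, hI, hI0, ⟨?_ ≪≫ e⟩⟩
        · simp only [φ', dif_pos hjm]; infer_instance
        · exact cokernel.mapIso _ _ (eqToIso (e1 ((Nat.le_succ j).trans hjm))) (eqToIso (e1 hjm))
            (by simp only [φ', dif_pos hjm]; simp)
      · obtain rfl : j = m := by omega
        obtain ⟨Z, i, hi, hZ, I, ι, hι, hI, hI0, ⟨e⟩⟩ := hq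
        refine ⟨?_, Z, i, hi, hZ, I, ι, hι, hI, hI0, ⟨?_ ≪≫ e⟩⟩
        · simp only [φ', dif_neg hjm, dif_pos]; infer_instance
        · exact cokernel.mapIso _ _ (eqToIso ((e1 le_rfl).trans hFm)) (eqToIso (e2 hjm))
            (by simp only [φ', dif_neg hjm, dif_pos]; simp)

/-- The devissage principle. -/
theorem devissage (P : X.Modules → Prop) (hP : ∀ M N : X.Modules, Nonempty (M ≅ N) → P M → P N)
    (h₀ : ∀ M : X.Modules, IsZero M → P M)
    (h₁ : ∀ S : ShortComplex X.Modules, S.ShortExact → Coh.IsCoh S.X₁ → Coh.IsCoh S.X₂ →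
      Coh.IsCoh S.X₃ → P S.X₁ → P S.X₃ → P S.X₂)
    (X' : Set X)
    (h₂ : ∀ (Z : Scheme.{u}) (i : Z ⟶ X), IsClosedImmersion i → IsIntegral Z → Set.range i ⊆ X' →
      ∀ (I : Z.Modules) (ι : I ⟶ Coh.structureModule Z), Mono ι → Coh.IsQCoh I → P ((Coh.push i).obj I))
    (hrange : ∀ (Z : Scheme.{u}) (i : Z ⟶ X), IsClosedImmersion i → IsIntegral Z →
      ∀ (I : Z.Modules) (ι : I ⟶ Coh.structureModule Z), Mono ι → Coh.IsQCoh I → ¬ IsZero I →
        CohB1.support ((Coh.push i).obj I) ⊆ X' → Set.range i ⊆ X')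
    (M : X.Modules) (hM : Coh.IsCoh M) (hsupp : CohB1.support M ⊆ X') : P M := by
  obtain ⟨N, hN, ⟨e⟩⟩ := exists_filt M hM
  refine hP N M ⟨e⟩ ?_
  have hsN : CohB1.support N ⊆ X' := (support_subset_of_iso e).trans hsupp
  clear hsupp hM e M
  induction hN with
  | zero N h hc => exact h₀ N h
  | step N N' φ hN hm hc hq ih =>
    obtain ⟨Z, i, hi, hZ, I, ι, hι, hI, hI0, ⟨e⟩⟩ := hq
    haveI := hm
    have hS : (ShortComplex.mk φ (cokernel.π φ) (cokernel.condition φ)).ShortExact :=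
      ShortComplex.ShortExact.mk' (ShortComplex.exact_cokernel φ) inferInstance inferInstance
    refine h₁ _ hS hN.isCoh hc (H10Coh.isCoh_cokernel φ hN.isCoh.1 hc)
      (ih ((support_subset_of_mono φ).trans hsN)) (hP _ _ ⟨e.symm⟩ (h₂ Z i hi hZ ?_ I ι hι hI))
    exact hrange Z i hi hZ I ι hι hI hI0
      ((support_subset_of_iso e.symm).trans ((support_subset_of_epi (cokernel.π φ)).trans hsN))

end noetherian

end Groth.Agent.LeadDev
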