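import Groth.Agent.LeadDev.Stalks
import Groth.Agent.LeadDev.Filt

/-!
# Coherent modules at the generic point of an integral closed subscheme
-/

set_option autoImplicit false
set_option linter.style.haveILetI false
set_option linter.unusedSectionVars false

universe u

open CategoryTheory CategoryTheory.Limits AlgebraicGeometry Opposite TopologicalSpace

namespace Groth.Agent.LeadDev

variable {X : Scheme.{u}}

theorem app_eq_zero_of_isZero {M : X.Modules} (h : IsZero M) {U : X.Opens} (s : Γ(M, U)) : s = 0 :=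
  congr($(congr(Scheme.Modules.Hom.app $(h.eq_of_src (𝟙 M) 0) U)) s)

theorem exists_kernel_section {M N : X.Modules} (η : M ⟶ N) (U : X.Opens) (s : Γ(M, U)) (h : η.app U s = 0) :
    ∃ k, (kernel.ι η).app U k = s := by
  have hK : (ShortComplex.mk (kernel.ι η) (Abelian.factorThruImage η) (by
      rw [← cancel_mono (Abelian.image.ι η), Category.assoc, Abelian.image.fac, kernel.condition,
        zero_comp])).ShortExact := by
    refine ShortComplex.ShortExact.mk' (ShortComplex.exact_of_f_is_kernel _ ?_) inferInstance inferInstance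
    refine KernelFork.IsLimit.ofι' (kernel.ι η) _ fun {W} g hg => ⟨kernel.lift η g ?_, kernel.lift_ι _ _ _⟩
    refine Eq.trans (congrArg (g ≫ ·) (Abelian.image.fac η).symm) ?_
    show g ≫ Abelian.factorThruImage η ≫ Abelian.image.ι η = 0
    rw [← Category.assoc, hg, zero_comp]
  refine H10Coh.exists_app_eq_of_exact hK U s ?_
  refine H10Coh.injective_app_of_mono' (Abelian.image.ι η) U (Eq.trans ?_ (map_zero _).symm)
  refine Eq.trans ?_ h
  exact congr($(congr(Scheme.Modules.Hom.app $(Abelian.image.fac η) U)) s)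

section integral

variable {Z : Scheme.{u}} (i : Z ⟶ X) [IsClosedImmersion i] [IsIntegral Z] {ξ : X}
  (hξ : i (genericPoint Z) = ξ)

include hξ

theorem mem_range_generic : ξ ∈ Set.range i := ⟨_, hξ⟩

theorem range_eq_closure : Set.range i = closure {ξ} := by
  rw [← Set.image_univ, ← genericPoint_closure (α := Z), ← i.isClosedEmbedding.closure_image_eq,
    Set.image_singleton, hξ]

theorem generic_mem {O : Z.Opens} (h : (O : Set Z).Nonempty) : genericPoint Z ∈ O := by
  obtain ⟨z, hz⟩ := h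
  exact (genericPoint_specializes z).mem_open O.2 hz

/-- A function vanishes on `Z` iff it vanishes at `ξ`. -/
theorem app_eq_zero_iff {W : X.Opens} (a : Γ(X, W)) : i.app W a = 0 ↔ ξ ∉ X.basicOpen a := by
  rw [← basicOpen_eq_bot_iff, ← Scheme.preimage_basicOpen]
  constructor
  · intro h hc
    have : genericPoint Z ∈ i ⁻¹ᵁ X.basicOpen a := by show i _ ∈ X.basicOpen a; rw [hξ]; exact hc
    rw [h] at this
    exact this
  · intro h
    refine eq_bot_iff.2 fun z hz => (h ?_).elim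
    rw [← hξ]
    exact generic_mem i hξ (O := i ⁻¹ᵁ X.basicOpen a) ⟨z, hz⟩

/-- A section of `i_* O_Z` vanishing near `ξ` is zero. -/
theorem push_section_eq_zero {O V : X.Opens} (hVO : V ≤ O) (hV : ξ ∈ V ∨ ξ ∉ O)
    (s : Γ((Coh.push i).obj (Coh.structureModule Z), O))
    (h : ((Coh.push i).obj (Coh.structureModule Z)).presheaf.map (homOfLE hVO).op s = 0) : s = 0 := by
  let y : Γ(Z, i ⁻¹ᵁ O) := s
  show y = 0
  by_cases hne : ((i ⁻¹ᵁ O : Z.Opens) : Set Z).Nonempty
  · have hO : ξ ∈ O := by rw [← hξ]; exact generic_mem i hξ hne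
    have hVξ : ξ ∈ V := hV.resolve_right (not_not_intro hO)
    haveI : Nonempty ↥(i ⁻¹ᵁ V) := ⟨⟨genericPoint Z, by show i _ ∈ V; rw [hξ]; exact hVξ⟩⟩
    haveI : Nonempty ↥(i ⁻¹ᵁ V).toScheme := ⟨⟨genericPoint Z, by show i _ ∈ V; rw [hξ]; exact hVξ⟩⟩
    exact map_injective_of_isIntegral (X := Z) (homOfLE (fun z hz => hVO hz) : i ⁻¹ᵁ V ⟶ i ⁻¹ᵁ O)
      (h.trans (map_zero _).symm)
  · have : i ⁻¹ᵁ O = ⊥ := Opens.ext (Set.not_nonempty_iff_eq_empty.1 hne)
    haveI : Subsingleton Γ(Z, i ⁻¹ᵁ O) := by rw [this]; infer_instance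
    exact Subsingleton.elim _ _

variable [IsNoetherian X]

theorem notMem_support_push_structure {x : X} (hx : x ∉ Set.range i) :
    x ∉ CohB1.support ((Coh.push i).obj (Coh.structureModule Z)) := fun hs =>
  hs (subsingleton_of_forall_eq 0 fun a => by
    obtain ⟨U, hxU, t, rfl⟩ := TopCat.Presheaf.exists_germ_eq _ a
    let V : X.Opens := U ⊓ ⟨(Set.range i)ᶜ, i.isClosedEmbedding.isClosed_range.isOpen_compl⟩
    have hV : i ⁻¹ᵁ V = ⊥ := Opens.ext (Set.eq_empty_iff_forall_notMem.2 fun z hz => hz.2 ⟨z, rfl⟩)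
    haveI : Subsingleton Γ(Z, i ⁻¹ᵁ V) := by rw [hV]; infer_instance
    let t' : Γ(Z, i ⁻¹ᵁ V) :=
      ((Coh.push i).obj (Coh.structureModule Z)).presheaf.map (homOfLE (inf_le_left : V ≤ U)).op t
    have h0 : t' = 0 := Subsingleton.elim _ _
    rw [← TopCat.Presheaf.germ_res_apply _ (homOfLE (inf_le_left : V ≤ U)) x ⟨hxU, hx⟩]
    erw [show ((Coh.push i).obj (Coh.structureModule Z)).presheaf.map (homOfLE (inf_le_left : V ≤ U)).op t = 0 from h0,
      map_zero])

/-- The generic structure of a coherent module killed at `ξ`: the basis. -/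
theorem exists_basis_at {W : X.Opens} (hW : IsAffineOpen W) (hξW : ξ ∈ W) (G : X.Modules) (hG : Coh.IsCoh G)
    (hsupp : ξ ∈ CohB1.support G)
    (hkill : ∀ a : Γ(X, W), ξ ∉ X.basicOpen a → ∀ s : Γ(G, W), ∃ c : Γ(X, W), UnitAt ξ W c ∧ c • a • s = 0) :
    ∃ (r : ℕ) (e : Fin r → Γ(G, W)), 1 ≤ r ∧
      (∀ y, ∃ (c : Γ(X, W)) (w : Fin r → Γ(X, W)), UnitAt ξ W c ∧ c • y = ∑ k, w k • e k) ∧
      (∀ w : Fin r → Γ(X, W), ∑ k, w k • e k = 0 → ∀ k, ξ ∉ X.basicOpen (w k)) ∧
      (∀ a : Γ(X, W), ξ ∉ X.basicOpen a → ∀ k, a • e k = 0) ∧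
      ((∀ e₀ y : Γ(G, W), (∀ c : Γ(X, W), UnitAt ξ W c → c • e₀ ≠ 0) →
        ∃ c a : Γ(X, W), UnitAt ξ W c ∧ c • y = a • e₀) → r = 1) := by
  classical
  haveI : IsNoetherianRing Γ(X, W) := IsLocallyNoetherian.component_noetherian ⟨W, hW⟩
  haveI := ((H10Coh.isCoh_iff_finite_sections G).1 hG).2 _ hW
  let Spans : ∀ {r : ℕ}, (Fin r → Γ(G, W)) → Prop := fun {r} e =>
    ∀ y, ∃ (c : Γ(X, W)) (w : Fin r → Γ(X, W)), UnitAt ξ W c ∧ c • y = ∑ k, w k • e k
  have hex : ∃ r, ∃ e : Fin r → Γ(G, W), Spans e := by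
    obtain ⟨r, e, he⟩ := Module.Finite.exists_fin (R := Γ(X, W)) (M := Γ(G, W))
    refine ⟨r, e, fun y => ?_⟩
    obtain ⟨w, hw⟩ := (Submodule.mem_span_range_iff_exists_fun _).1 (he ▸ (trivial : y ∈ ⊤))
    exact ⟨1, w, unitAt_one hξW, by rw [one_smul, hw]⟩
  let r := Nat.find hex
  obtain ⟨e₀, he₀⟩ : ∃ e : Fin r → Γ(G, W), Spans e := Nat.find_spec hex
  have hr1 : 1 ≤ r := by
    by_contra hc
    refine notMem_support_of_smul hW hξW G hG.1 (fun y => ?_) hsupp
    obtain ⟨c, w, hc', hy⟩ := he₀ y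
    have : IsEmpty (Fin r) := by
      have : r = 0 := by omega
      rw [this]; infer_instance
    exact ⟨c, hc', by rw [hy, Finset.univ_eq_empty, Finset.sum_empty]⟩
  let p : Ideal Γ(X, W) := {
    carrier := {a | ξ ∉ X.basicOpen a}
    add_mem' := fun {a b} ha hb => by
      rw [Set.mem_setOf_eq, ← app_eq_zero_iff i hξ, map_add, (app_eq_zero_iff i hξ a).2 ha,
        (app_eq_zero_iff i hξ b).2 hb, add_zero]
    zero_mem' := by rw [Set.mem_setOf_eq, ← app_eq_zero_iff i hξ, map_zero]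
    smul_mem' := fun a b hb => by
      rw [Set.mem_setOf_eq, ← app_eq_zero_iff i hξ, smul_eq_mul, map_mul, (app_eq_zero_iff i hξ b).2 hb,
        mul_zero] }
  have hmulc : ∀ k, ∃ c, UnitAt ξ W c ∧ ∀ a ∈ p, c • a • e₀ k = 0 := fun k => by
    obtain ⟨t, ht⟩ := IsNoetherian.noetherian p
    have hts : ∀ a ∈ t, ξ ∉ X.basicOpen a := fun a ha =>
      (show a ∈ p from ht ▸ Submodule.subset_span ha)
    choose c hc hc0 using fun a : t => hkill a.1 (hts a.1 a.2) (e₀ k)
    refine ⟨∏ a, c a, Finset.prod_induction _ _ (fun _ _ => UnitAt.mul) (unitAt_one hξW) (fun a _ => hc a),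
      fun a ha => ?_⟩
    have : a ∈ Ideal.span (t : Set Γ(X, W)) := by rw [show Ideal.span (t : Set Γ(X, W)) = p from ht]; exact ha
    induction this using Submodule.span_induction with
    | mem x hx =>
      obtain ⟨d, hd⟩ := Finset.dvd_prod_of_mem c (Finset.mem_univ (⟨x, hx⟩ : t))
      rw [hd, mul_comm, mul_smul]
      show d • c ⟨x, hx⟩ • (x • e₀ k) = 0
      rw [hc0 ⟨x, hx⟩, smul_zero]
    | zero => rw [zero_smul, smul_zero]
    | add x y hx hy hx' hy' => rw [add_smul, smul_add, hx' (ht ▸ hx), hy' (ht ▸ hy), add_zero]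
    | smul z x hx hx' => rw [smul_eq_mul, mul_smul, smul_comm, hx' (ht ▸ hx), smul_zero]
  choose u hu hu0 using hmulc
  let e : Fin r → Γ(G, W) := fun k => u k • e₀ k
  have hspan : Spans e := fun y => by
    obtain ⟨c, w, hc, hy⟩ := he₀ y
    refine ⟨(∏ k, u k) * c, fun k => (∏ l ∈ Finset.univ.erase k, u l) * w k,
      (Finset.prod_induction _ _ (fun _ _ => UnitAt.mul) (unitAt_one hξW) (fun a _ => hu a)).mul hc, ?_⟩
    rw [mul_smul, hy, Finset.smul_sum]
    refine Finset.sum_congr rfl fun k _ => ?_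
    show _ = _ • u k • e₀ k
    rw [smul_smul, smul_smul, ← Finset.prod_erase_mul _ u (Finset.mem_univ k)]
    congr 1
    ring
  have hkilled : ∀ a : Γ(X, W), ξ ∉ X.basicOpen a → ∀ k, a • e k = 0 := fun a ha k => by
    show a • u k • e₀ k = 0
    rw [smul_smul, mul_comm, ← smul_smul]; exact hu0 k a ha
  refine ⟨r, e, hr1, hspan, fun w hw k₀ hk₀ => ?_, hkilled, fun hcyc => ?_⟩
  · -- fewer generators would suffice
    obtain ⟨r', hr'⟩ : ∃ r', r = r' + 1 := ⟨r - 1, by omega⟩
    have : ∃ e' : Fin r' → Γ(G, W), Spans e' := by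
      let E : Fin r' → Fin r := fun l => Fin.cast hr'.symm (Fin.succAbove (Fin.cast hr' k₀) l)
      refine ⟨e ∘ E, fun y => ?_⟩
      obtain ⟨c, v, hc, hy⟩ := hspan y
      refine ⟨w k₀ * c, fun l => w k₀ * v (E l) - v k₀ * w (E l), UnitAt.mul hk₀ hc, ?_⟩
      have hsum : ∀ f : Fin r → Γ(G, W), ∑ k, f k = f k₀ + ∑ l, f (E l) := fun f => by
        rw [← Equiv.sum_comp (finCongr hr'.symm) f, Fin.sum_univ_succAbove _ (Fin.cast hr' k₀)]
        rfl
      rw [hsum] at hw
      have hy' : c • y = v k₀ • e k₀ + ∑ l, v (E l) • e (E l) := by rw [hy]; exact hsum (fun k => v k • e k)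
      rw [mul_smul, hy', smul_add, smul_comm, eq_neg_of_add_eq_zero_left hw, smul_neg, Finset.smul_sum,
        Finset.smul_sum, neg_add_eq_sub, ← Finset.sum_sub_distrib]
      exact Finset.sum_congr rfl fun l _ => by rw [Function.comp_apply, sub_smul, mul_smul, mul_smul]
    have := Nat.find_min' hex this
    omega
  · obtain ⟨k, hk⟩ : ∃ k, ∀ c, UnitAt ξ W c → c • e k ≠ 0 := by
      by_contra hc
      push Not at hc
      choose c hc hc0 using hc
      refine notMem_support_of_smul hW hξW G hG.1 (fun y => ?_) hsupp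
      obtain ⟨c', w, hc', hy⟩ := hspan y
      refine ⟨(∏ k, c k) * c', (Finset.prod_induction _ _ (fun _ _ => UnitAt.mul) (unitAt_one hξW) (fun a _ => hc a)).mul hc', ?_⟩
      rw [mul_smul, hy, Finset.smul_sum]
      refine Finset.sum_eq_zero fun l _ => ?_
      obtain ⟨d, hd⟩ := Finset.dvd_prod_of_mem c (Finset.mem_univ l)
      rw [hd, smul_smul, mul_comm (c l), mul_comm, ← mul_assoc, mul_smul, hc0 l, smul_zero]
    have h1 : ∃ e' : Fin 1 → Γ(G, W), Spans e' := ⟨fun _ => e k, fun y => by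
      obtain ⟨c, a, hc, hy⟩ := hcyc (e k) y hk
      exact ⟨c, fun _ => a, hc, by simpa using hy⟩⟩
    have := Nat.find_min' hex h1
    omega

theorem exists_psi {W : X.Opens} (hW : IsAffineOpen W) (G : X.Modules) {r : ℕ} (e : Fin r → Γ(G, W))
    (hspan : ∀ y, ∃ (c : Γ(X, W)) (w : Fin r → Γ(X, W)), UnitAt ξ W c ∧ c • y = ∑ k, w k • e k)
    (hind : ∀ w : Fin r → Γ(X, W), ∑ k, w k • e k = 0 → ∀ k, ξ ∉ X.basicOpen (w k))
    (hkilled : ∀ a : Γ(X, W), ξ ∉ X.basicOpen a → ∀ k, a • e k = 0) :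
    Coh.IsCoh (⨁ fun _ : Fin r => (Coh.push i).obj (Coh.structureModule Z)) ∧
    ∃ ψ : Γ(⨁ fun _ : Fin r => (Coh.push i).obj (Coh.structureModule Z), W) →ₗ[Γ(X, W)] Γ(G, W),
      Function.Injective ψ ∧ ∀ g, ∃ (c : Γ(X, W)) (y : _), UnitAt ξ W c ∧ ψ y = c • g := by
  classical
  set A := (Coh.push i).obj (Coh.structureModule Z)
  set Ar := ⨁ fun _ : Fin r => A
  have hA : Coh.IsCoh A := isCoh_push_structure i
  haveI : A.IsQuasicoherent := hA.1
  have hArq : Coh.IsQCoh Ar := H10Coh.isQuasicoherent_biproduct _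
  haveI := ((H10Coh.isCoh_iff_finite_sections A).1 hA).2 _ hW
  have hAr : Coh.IsCoh Ar := by
    refine (H10Coh.isCoh_iff_finite_sections Ar).2 ⟨hArq, fun U hU => ?_⟩
    haveI := ((H10Coh.isCoh_iff_finite_sections A).1 hA).2 _ hU
    let L : Γ(Ar, U) →ₗ[Γ(X, U)] (Fin r → Γ(A, U)) :=
      { toFun := fun y k => (biproduct.π (fun _ : Fin r => A) k).app U y
        map_add' := fun a b => funext fun k => map_add _ a b
        map_smul' := fun c a => funext fun k => Scheme.Modules.Hom.app_smul _ c a }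
    haveI : IsNoetherianRing Γ(X, U) := IsLocallyNoetherian.component_noetherian ⟨U, hU⟩
    exact Module.Finite.of_injective L fun a b h => H10Coh.biproduct_sections_ext _ U a b fun k => congrFun h k
  -- the map on sections over `W`
  let one : Γ(A, W) := (1 : Γ(Z, i ⁻¹ᵁ W))
  have hsurjA : ∀ y : Γ(A, W), ∃ a : Γ(X, W), a • one = y := fun y => by
    obtain ⟨a, ha⟩ := Scheme.Hom.app_surjective i W hW (show Γ(Z, i ⁻¹ᵁ W) from y)
    exact ⟨a, (mul_one (i.app W a)).trans ha⟩
  have hzeroA : ∀ a : Γ(X, W), a • one = 0 ↔ ξ ∉ X.basicOpen a := fun a => by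
    rw [← app_eq_zero_iff i hξ]
    constructor
    · intro h; exact (mul_one (i.app W a)).symm.trans h
    · intro h; exact (mul_one (i.app W a)).trans h
  let q : Γ(X, W) →ₗ[Γ(X, W)] Γ(A, W) := LinearMap.toSpanSingleton _ _ one
  have hqk : ∀ k, LinearMap.ker q ≤ LinearMap.ker (LinearMap.toSpanSingleton Γ(X, W) _ (e k)) :=
    fun k a ha => hkilled a ((hzeroA a).1 ha) k
  let ψk : Fin r → (Γ(A, W) →ₗ[Γ(X, W)] Γ(G, W)) := fun k =>
    (LinearMap.ker q).liftQ _ (hqk k) ∘ₗ (q.quotKerEquivOfSurjective fun y => hsurjA y).symm.toLinearMap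
  have hψk : ∀ k a, ψk k (a • one) = a • e k := fun k a => by
    have : (q.quotKerEquivOfSurjective fun y => hsurjA y).symm (q a) = Submodule.Quotient.mk a :=
      (LinearEquiv.symm_apply_eq _).2 rfl
    show (LinearMap.ker q).liftQ _ (hqk k) ((q.quotKerEquivOfSurjective fun y => hsurjA y).symm (q a)) = _
    rw [this, Submodule.liftQ_apply]
    rfl
  let πW : Fin r → Γ(Ar, W) →ₗ[Γ(X, W)] Γ(A, W) := fun k =>
    { toFun := (biproduct.π (fun _ : Fin r => A) k).app W
      map_add' := map_add _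
      map_smul' := fun c a => Scheme.Modules.Hom.app_smul _ c a }
  let ψ : Γ(Ar, W) →ₗ[Γ(X, W)] Γ(G, W) := ∑ k, ψk k ∘ₗ πW k
  have hψinj : Function.Injective ψ := (injective_iff_map_eq_zero ψ).2 fun y hy => by
    refine H10Coh.biproduct_sections_ext _ W _ _ fun k => Eq.trans ?_ (map_zero _).symm
    choose w hw using fun k => hsurjA (πW k y)
    have : ∑ k, w k • e k = 0 := by
      rw [← hy]; simp only [ψ, LinearMap.sum_apply, LinearMap.comp_apply, ← hw, hψk]
    show πW k y = 0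
    rw [← hw k, hzeroA]
    exact hind w this k
  have hψsurj : ∀ g, ∃ (c : Γ(X, W)) (y : Γ(Ar, W)), UnitAt ξ W c ∧ ψ y = c • g := fun g => by
    obtain ⟨c, w, hc, hg⟩ := hspan g
    let y : Γ(Ar, W) := ∑ l, (biproduct.ι (fun _ : Fin r => A) l).app W (w l • one)
    have hy : ∀ k, πW k y = w k • one := fun k => by
      show (biproduct.π (fun _ : Fin r => A) k).app W (∑ l, _) = _
      rw [map_sum, Finset.sum_eq_single k (fun l _ hlk => ?_) (fun h => absurd (Finset.mem_univ k) h)]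
      · exact congr($(congr(Scheme.Modules.Hom.app $(biproduct.ι_π_self (fun _ : Fin r => A) k) W)) (w k • one))
      · exact congr($(congr(Scheme.Modules.Hom.app $(biproduct.ι_π_ne (fun _ : Fin r => A) hlk) W)) (w l • one))
    exact ⟨c, y, hc, by simp only [ψ, LinearMap.sum_apply, LinearMap.comp_apply, hy, hψk, hg]⟩
  exact ⟨hAr, ψ, hψinj, hψsurj⟩

omit hξ in
theorem exists_hom_of_affine {W : X.Opens} (hW : IsAffineOpen W) (Ar G : X.Modules) (hArq : Coh.IsQCoh Ar)
    (hG : Coh.IsCoh G) (ψ : Γ(Ar, W) →ₗ[Γ(X, W)] Γ(G, W)) :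
    ∃ f : Ar.restrict hW.fromSpec ⟶ G.restrict hW.fromSpec, ∀ y,
      G.presheaf.map (eqToHom (show W = hW.fromSpec ''ᵁ ⊤ by
          rw [Scheme.Hom.image_top_eq_opensRange, hW.opensRange_fromSpec])).op (f.app ⊤ y) =
        ψ (Ar.presheaf.map (eqToHom (show W = hW.fromSpec ''ᵁ ⊤ by
          rw [Scheme.Hom.image_top_eq_opensRange, hW.opensRange_fromSpec])).op y) := by
  let j := hW.fromSpec
  haveI : IsLocallyNoetherian (Spec Γ(X, W)) := isLocallyNoetherian_of_isOpenImmersion j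
  have hjW : j ''ᵁ ⊤ = W := by rw [Scheme.Hom.image_top_eq_opensRange, hW.opensRange_fromSpec]
  let tA : ∀ (M : X.Modules), Γ(M, j ''ᵁ ⊤) →+ Γ(M, W) := fun M => (M.presheaf.map (eqToHom hjW.symm).op).hom
  let fA : ∀ (M : X.Modules), Γ(M, W) →+ Γ(M, j ''ᵁ ⊤) := fun M => (M.presheaf.map (eqToHom hjW).op).hom
  have htf : ∀ (M : X.Modules) y, tA M (fA M y) = y := fun M y => by
    show (M.presheaf.map _ ≫ M.presheaf.map _) y = y
    rw [← Functor.map_comp, ← op_comp, eqToHom_trans, eqToHom_refl, op_id, CategoryTheory.Functor.map_id]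
    rfl
  have hft : ∀ (M : X.Modules) y, fA M (tA M y) = y := fun M y => by
    show (M.presheaf.map _ ≫ M.presheaf.map _) y = y
    rw [← Functor.map_comp, ← op_comp, eqToHom_trans, eqToHom_refl, op_id, CategoryTheory.Functor.map_id]
    rfl
  let ρ : Γ(X, W) → Γ(X, j ''ᵁ ⊤) := fun a => (j.appIso ⊤).inv ((Scheme.ΓSpecIso Γ(X, W)).inv a)
  have hρW : ∀ a, X.presheaf.map (eqToHom hjW.symm).op (ρ a) = a := fun a => by
    have h1 : (Scheme.ΓSpecIso Γ(X, W)).inv a = j.appLE W ⊤ (hW.fromSpec_preimage_self.ge) a := by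
      simp only [Scheme.Hom.appLE, j, hW.fromSpec_app_self, Category.assoc, ← Functor.map_comp]
      simp
    show X.presheaf.map _ ((j.appIso ⊤).inv ((Scheme.ΓSpecIso Γ(X, W)).inv a)) = a
    rw [h1, ← ConcreteCategory.comp_apply, ← ConcreteCategory.comp_apply, Scheme.Hom.appLE_appIso_inv_assoc,
      ← Functor.map_comp, ← op_comp]
    simp
  have hρ : ∀ (N : X.Modules) (a : Γ(X, W)) (y : Γ(N, j ''ᵁ ⊤)),
      tA N (show Γ(N, j ''ᵁ ⊤) from a • (show moduleSpecΓFunctor.obj (N.restrict j) from y)) = a • tA N y := by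
    intro N a y
    have : (show Γ(N, j ''ᵁ ⊤) from a • (show moduleSpecΓFunctor.obj (N.restrict j) from y)) = ρ a • y := by
      show (show Γ(N, j ''ᵁ ⊤) from a • (show Γ(N.restrict j, ⊤) from y)) = _
      rw [Scheme.Modules.smul_Spec_def]
      simp
      rfl
    rw [this]
    refine (Scheme.Modules.map_smul N _ _ _).trans ?_
    rw [hρW]
  let ψR : moduleSpecΓFunctor.obj (Ar.restrict j) →ₗ[Γ(X, W)] moduleSpecΓFunctor.obj (G.restrict j) :=
    { toFun := fun y => fA G (ψ (tA Ar y))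
      map_add' := fun a b => by
        show fA G (ψ (tA Ar (_ + _))) = _
        erw [map_add, map_add, map_add]
        rfl
      map_smul' := fun a y => by
        show fA G (ψ (tA Ar _)) = _
        erw [hρ Ar a y]
        rw [map_smul]
        refine ((congrArg (fA G) ((hρ G a (fA G (ψ (tA Ar y)))).trans (by rw [htf]))).symm).trans ?_
        exact hft G _ }
  let φ : moduleSpecΓFunctor.obj (Ar.restrict j) ⟶ moduleSpecΓFunctor.obj (G.restrict j) :=
    ModuleCat.ofHom (X := moduleSpecΓFunctor.obj (Ar.restrict j)) (Y := moduleSpecΓFunctor.obj (G.restrict j)) ψR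
  have hqA := isQCoh_restrict j Ar hArq
  have hqG := isQCoh_restrict j G hG.1
  haveI hAi : IsIso (Ar.restrict j).fromTildeΓ := (isQuasicoherent_iff_isIso_fromTildeΓ _).1 hqA
  haveI hGi : IsIso (G.restrict j).fromTildeΓ := (isQuasicoherent_iff_isIso_fromTildeΓ _).1 hqG
  obtain ⟨f, hf⟩ : ∃ f : Ar.restrict j ⟶ G.restrict j, ∀ y, f.app ⊤ y = ψR y := by
    let adj := tilde.adjunction (R := Γ(X, W))
    let f' := (adj.homEquiv _ _).symm φ
    have h0 : IsIso (adj.counit.app (Ar.restrict j)) := hAi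
    let f : Ar.restrict j ⟶ G.restrict j := inv (adj.counit.app (Ar.restrict j)) ≫ f'
    refine ⟨f, fun y => ?_⟩
    have h1 : moduleSpecΓFunctor.map (inv (adj.counit.app (Ar.restrict j))) =
        adj.unit.app (moduleSpecΓFunctor.obj (Ar.restrict j)) := by
      rw [Functor.map_inv]
      exact IsIso.inv_eq_of_inv_hom_id (adj.right_triangle_components _)
    have h2 : moduleSpecΓFunctor.map f = φ := by
      simp only [f, Functor.map_comp, h1]
      exact (adj.homEquiv_unit _ _ f').symm.trans ((adj.homEquiv _ _).apply_symm_apply φ)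
    exact congr($h2 y)
  refine ⟨f, fun y => ?_⟩
  show tA G (f.app ⊤ y) = ψ (tA Ar y)
  rw [hf]
  exact htf G _

theorem exists_model {W : X.Opens} (hW : IsAffineOpen W) (hξW : ξ ∈ W) (G : X.Modules) (hG : Coh.IsCoh G) (r : ℕ)
    (hAr : Coh.IsCoh (⨁ fun _ : Fin r => (Coh.push i).obj (Coh.structureModule Z)))
    (ψ : Γ(⨁ fun _ : Fin r => (Coh.push i).obj (Coh.structureModule Z), W) →ₗ[Γ(X, W)] Γ(G, W))
    (hψinj : Function.Injective ψ) (hψsurj : ∀ g, ∃ (c : Γ(X, W)) (y : _), UnitAt ξ W c ∧ ψ y = c • g) :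
    ∃ (H : X.Modules) (a : H ⟶ ⨁ fun _ : Fin r => (Coh.push i).obj (Coh.structureModule Z)) (b : H ⟶ G),
      Coh.IsCoh H ∧ Mono b ∧ Function.Bijective (a.app W) ∧ SurjAt ξ W a ∧ SurjAt ξ W b := by
  classical
  let A := (Coh.push i).obj (Coh.structureModule Z)
  let Ar := ⨁ fun _ : Fin r => A
  have hArq : Coh.IsQCoh Ar := hAr.1
  obtain ⟨f, hf⟩ := exists_hom_of_affine hW Ar G hArq hG ψ
  let j := hW.fromSpec
  have hjW : j ''ᵁ ⊤ = W := by rw [Scheme.Hom.image_top_eq_opensRange, hW.opensRange_fromSpec]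
  let tA : ∀ (M : X.Modules), Γ(M, j ''ᵁ ⊤) →+ Γ(M, W) := fun M => (M.presheaf.map (eqToHom hjW.symm).op).hom
  let fA : ∀ (M : X.Modules), Γ(M, W) →+ Γ(M, j ''ᵁ ⊤) := fun M => (M.presheaf.map (eqToHom hjW).op).hom
  have htf : ∀ (M : X.Modules) y, tA M (fA M y) = y := fun M y => by
    show (M.presheaf.map _ ≫ M.presheaf.map _) y = y
    rw [← Functor.map_comp, ← op_comp, eqToHom_trans, eqToHom_refl, op_id, CategoryTheory.Functor.map_id]
    rfl
  have hft : ∀ (M : X.Modules) y, fA M (tA M y) = y := fun M y => by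
    show (M.presheaf.map _ ≫ M.presheaf.map _) y = y
    rw [← Functor.map_comp, ← op_comp, eqToHom_trans, eqToHom_refl, op_id, CategoryTheory.Functor.map_id]
    rfl
  obtain ⟨H, a, b, hH, hab, ha, hb⟩ := exists_compare j hAr hG f
  have hqG := isQCoh_restrict j G hG.1
  set F := Scheme.Modules.restrictFunctor j
  haveI := ha
  -- sections over `W`
  have happW : ∀ {M N : X.Modules} (g : M ⟶ N) (y : Γ(M, j ''ᵁ ⊤)), g.app W (tA M y) = tA N (g.app (j ''ᵁ ⊤) y) :=
    fun g y => congr($(g.mapPresheaf.naturality (eqToHom hjW.symm).op) y)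
  have haW : Function.Bijective (a.app W) := by
    have hb' : Function.Bijective ((F.map a).app ⊤) := by
      have : IsIso ((F.map a).app ⊤) := Scheme.Modules.Hom.isIso_iff_isIso_app.mp ha ⊤
      exact ConcreteCategory.bijective_of_isIso _
    refine ⟨fun x y hxy => ?_, fun y => ?_⟩
    · rw [← htf H x, ← htf H y, happW, happW] at hxy
      have := congrArg (fA Ar) hxy
      rw [hft, hft] at this
      rw [← htf H x, ← htf H y, hb'.1 this]
    · obtain ⟨x, hx⟩ := hb'.2 (fA Ar y)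
      refine ⟨tA H x, (happW a x).trans ?_⟩
      exact (congrArg (tA Ar) hx).trans (htf Ar y)
  have hbW : ∀ x, b.app W x = ψ (a.app W x) := fun x => by
    rw [← htf H x, happW, happW]
    have h1 : (F.map b).app ⊤ (fA H x) = f.app ⊤ ((F.map a).app ⊤ (fA H x)) := by rw [hb]; rfl
    refine (congrArg (tA G) h1).trans ?_
    exact hf _
  haveI : Mono b := by
    refine Preadditive.mono_of_kernel_zero ((isZero_of_sections fun O s => ?_).eq_of_src _ _)
    let κ : kernel b ⟶ Ar := kernel.ι b ≫ a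
    haveI : Mono κ := Preadditive.mono_of_cancel_zero _ fun g hg => by
      rw [← cancel_mono (kernel.ι b), zero_comp, ← cancel_mono (biprod.lift a b), zero_comp]
      apply biprod.hom_ext
      · simpa using hg
      · simp
    refine H10Coh.injective_app_of_mono' κ O (Eq.trans ?_ (map_zero _).symm)
    refine H10Coh.biproduct_sections_ext _ O _ _ fun k => Eq.trans ?_ (map_zero _).symm
    refine push_section_eq_zero i hξ (inf_le_left : O ⊓ W ≤ O) (by
      by_cases h : ξ ∈ O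
      · exact Or.inl ⟨h, hξW⟩
      · exact Or.inr h) _ ?_
    refine (congr($((κ ≫ biproduct.π (fun _ : Fin r => A) k).mapPresheaf.naturality (homOfLE (inf_le_left : O ⊓ W ≤ O)).op) s)).symm.trans ?_
    set t := (kernel b).presheaf.map (homOfLE (inf_le_left : O ⊓ W ≤ O)).op s
    have hz : IsZero (F.obj (kernel b)) := by
      haveI : Mono (F.map b) := by
        refine Preadditive.mono_of_kernel_zero ((isZero_of_sections fun U x => ?_).eq_of_src _ _)
        haveI : (kernel (F.map b)).IsQuasicoherent := by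
          haveI := isQCoh_restrict j H hH.1
          haveI : (F.obj G).IsQuasicoherent := hqG
          exact H10Coh.isQuasicoherent_kernel _
        have htop : ∀ x : Γ(kernel (F.map b), ⊤), x = 0 := fun x => by
          refine H10Coh.injective_app_of_mono' (kernel.ι (F.map b)) ⊤ (Eq.trans ?_ (map_zero _).symm)
          have h1 : (F.map b).app ⊤ ((kernel.ι (F.map b)).app ⊤ x) = 0 :=
            congr($(congr(Scheme.Modules.Hom.app $(kernel.condition (F.map b)) ⊤)) x)
          have h2 : b.app W (tA H ((kernel.ι (F.map b)).app ⊤ x)) = 0 := by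
            exact (happW b _).trans ((congrArg (tA G) h1).trans (map_zero _))
          have h3 : tA H ((kernel.ι (F.map b)).app ⊤ x) = 0 :=
            haW.1 ((hψinj ((hbW _).symm.trans (h2.trans (map_zero ψ).symm))).trans (map_zero _).symm)
          exact (hft H _).symm.trans ((congrArg (fA H) h3).trans (map_zero _))
        haveI : IsIso (kernel (F.map b)).fromTildeΓ :=
          (isQuasicoherent_iff_isIso_fromTildeΓ _).1 inferInstance
        have hs : Subsingleton (moduleSpecΓFunctor.obj (kernel (F.map b)) : ModuleCat.{u} Γ(X, W)) :=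
          ⟨fun x y => (htop x).trans (htop y).symm⟩
        exact app_eq_zero_of_isZero (((tilde.functor Γ(X, W)).map_isZero
          (@ModuleCat.isZero_of_subsingleton _ _ _ hs)).of_iso (asIso (kernel (F.map b)).fromTildeΓ).symm) x
      rw [IsZero.iff_id_eq_zero, ← cancel_mono (F.map (kernel.ι b)), ← cancel_mono (F.map b)]
      simp [← Functor.map_comp]
    have ht : t = 0 := sections_restrict_eq_zero j hz (by rw [hW.opensRange_fromSpec]; exact inf_le_right) t
    rw [ConcreteCategory.comp_apply]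
    show (κ ≫ biproduct.π (fun _ : Fin r => A) k).app _ t = 0
    rw [ht, map_zero]
  have hsa : SurjAt ξ W a := fun y => ⟨1, (haW.2 y).choose, unitAt_one hξW, by
    rw [(haW.2 y).choose_spec, one_smul]⟩
  have hsb : SurjAt ξ W b := fun g => by
    obtain ⟨c, y, hc, hy⟩ := hψsurj g
    obtain ⟨x, rfl⟩ := haW.2 y
    exact ⟨c, x, hc, (hbW x).trans hy⟩
  exact ⟨H, a, b, hH, inferInstance, haW, hsa, hsb⟩

/-- Generic comparison with a submodule of a power of `i_* O_Z`. -/
theorem exists_generic {W : X.Opens} (hW : IsAffineOpen W) (hξW : ξ ∈ W) (G : X.Modules) (hG : Coh.IsCoh G)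
    (hsupp : ξ ∈ CohB1.support G)
    (hkill : ∀ a : Γ(X, W), ξ ∉ X.basicOpen a → ∀ s : Γ(G, W), ∃ c : Γ(X, W), UnitAt ξ W c ∧ c • a • s = 0) :
    ∃ r : ℕ, 1 ≤ r ∧
      ((∀ e₀ y : Γ(G, W), (∀ c : Γ(X, W), UnitAt ξ W c → c • e₀ ≠ 0) → ∃ c a : Γ(X, W), UnitAt ξ W c ∧ c • y = a • e₀) → r = 1) ∧
      ∀ (B : X.Modules) (m : B ⟶ ⨁ fun _ : Fin r => (Coh.push i).obj (Coh.structureModule Z)),
        Mono m → Coh.IsCoh B → SurjAt ξ W m →
        ∃ J : X.IdealSheafData, ξ ∉ (J.support : Set X) ∧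
          ∀ (G' : X.Modules) (ι' : G' ⟶ (Dual3.idealMul J).obj G), Mono ι' →
            SurjAt ξ W (ι' ≫ Dual3.idealMulι J G) →
            ∃ μ : G' ⟶ B, Mono μ ∧ SurjAt ξ W μ := by
  classical
  obtain ⟨r, e, hr, hspan, hind, hkilled, hcyc⟩ := exists_basis_at i hξ hW hξW G hG hsupp hkill
  refine ⟨r, hr, hcyc, ?_⟩
  intro B m hm hB hsm
  haveI := hm
  obtain ⟨hAr, ψ, hψinj, hψsurj⟩ := exists_psi i hξ hW G e hspan hind hkilled
  obtain ⟨H₀, a₀, b₀, hH₀, hbm, haW, -, hsb₀⟩ := exists_model i hξ hW hξW G hG r hAr ψ hψinj hψsurj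
  haveI := hbm
  have hArq : Coh.IsQCoh _ := hAr.1
  haveI : G.IsQuasicoherent := hG.1
  have hC : Coh.IsCoh (cokernel m) := H10Coh.isCoh_cokernel m hB.1 hAr
  have hξC : ξ ∉ CohB1.support (cokernel m) := notMem_support_cokernel m hB.1 hArq hW hξW hsm
  let d := a₀ ≫ cokernel.π m
  let H := kernel d
  have hH : Coh.IsCoh H := H10Coh.isCoh_kernel d hH₀ hC.1
  have hmlim : IsLimit (KernelFork.ofι m (cokernel.condition m)) :=
    Abelian.monoIsKernelOfCokernel (CokernelCofork.ofπ (cokernel.π m) (cokernel.condition m)) (cokernelIsCokernel m)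
  obtain ⟨a, ha⟩ := KernelFork.IsLimit.lift' hmlim (kernel.ι d ≫ a₀) (by
    show (kernel.ι d ≫ a₀) ≫ cokernel.π m = 0
    rw [Category.assoc]; exact kernel.condition d)
  change a ≫ m = kernel.ι d ≫ a₀ at ha
  let b := kernel.ι d ≫ b₀
  have haapp : ∀ (x : Γ(H, W)), m.app W (a.app W x) = a₀.app W ((kernel.ι d).app W x) := fun x =>
    congr($(congr(Scheme.Modules.Hom.app $ha W)) x)
  have hsa : SurjAt ξ W a := fun z => by
    obtain ⟨x, hx⟩ := haW.2 (m.app W z)
    obtain ⟨k, rfl⟩ := exists_kernel_section d W x (by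
      show (cokernel.π m).app W (a₀.app W x) = 0
      rw [hx]
      exact congr($(congr(Scheme.Modules.Hom.app $(cokernel.condition m) W)) z))
    refine ⟨1, k, unitAt_one hξW, H10Coh.injective_app_of_mono' m W ?_⟩
    rw [haapp, hx, one_smul]
  have hsb : SurjAt ξ W b := SurjAt.comp (fun y => by
    obtain ⟨c, hc, hc0⟩ := exists_unitAt_smul_eq_zero hW hξW _ hC.1 hξC (d.app W y)
    obtain ⟨k, hk⟩ := exists_kernel_section d W (c • y) ((Scheme.Modules.Hom.app_smul d c y).trans hc0)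
    exact ⟨c, k, hc, hk⟩) hsb₀
  let T := kernel a
  have hT : Coh.IsCoh T := H10Coh.isCoh_kernel a hH hB.1
  have hξT : ξ ∉ CohB1.support T := notMem_support_of_smul hW hξW T hT.1 fun s =>
    ⟨1, unitAt_one hξW, by
      rw [one_smul]
      refine H10Coh.injective_app_of_mono' (kernel.ι a) W (Eq.trans ?_ (map_zero _).symm)
      refine H10Coh.injective_app_of_mono' (kernel.ι d) W (haW.1 ?_)
      rw [← haapp, ← haapp]
      exact congrArg _ ((congr($(congr(Scheme.Modules.Hom.app $(kernel.condition a) W)) s)).trans (map_zero _).symm)⟩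
  have hQ : Coh.IsCoh (cokernel b) := H10Coh.isCoh_cokernel b hH.1 hG
  have hξQ : ξ ∉ CohB1.support (cokernel b) := notMem_support_cokernel b hH.1 hG.1 hW hξW hsb
  obtain ⟨J, hJ, hJQ, hJT⟩ := exists_good_ideal hG hT hQ (kernel.ι a ≫ b) (cokernel.π b) ξ hξT hξQ
  refine ⟨J, hJ, fun G' ι' hι' hsur => ?_⟩
  haveI := hι'
  haveI : Mono (Dual3.idealMulι J G) := inferInstance
  have hlim : IsLimit (KernelFork.ofι b (cokernel.condition b)) :=
    Abelian.monoIsKernelOfCokernel (CokernelCofork.ofπ (cokernel.π b) (cokernel.condition b)) (cokernelIsCokernel b)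
  obtain ⟨ν, hν⟩ := KernelFork.IsLimit.lift' hlim (ι' ≫ Dual3.idealMulι J G) (by
    show (ι' ≫ Dual3.idealMulι J G) ≫ cokernel.π b = 0
    rw [Category.assoc, hJQ, comp_zero])
  change ν ≫ b = ι' ≫ Dual3.idealMulι J G at hν
  haveI : Mono ν := by
    haveI : Mono (ν ≫ b) := by rw [hν]; infer_instance
    exact mono_of_mono ν b
  refine ⟨ν ≫ a, Preadditive.mono_of_cancel_zero _ fun g hg => ?_, ?_⟩
  · haveI : Mono (kernel.ι a ≫ b) := inferInstance
    have h1 := hJT (kernel.lift a (g ≫ ν) (by rw [Category.assoc]; exact hg)) (g ≫ ι') (by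
      rw [kernel.lift_ι_assoc, Category.assoc, hν, Category.assoc])
    have h2 : g ≫ ν = 0 := by rw [← kernel.lift_ι a (g ≫ ν) (by rw [Category.assoc]; exact hg), h1, zero_comp]
    rw [← cancel_mono ν, h2, zero_comp]
  · exact (SurjAt.of_comp_mono (f := ν) (g := b) (by rw [hν]; exact hsur)).comp hsa

end integral

end Groth.Agent.LeadDev
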