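import Groth.Agent.LeadDev.Basic
import Groth.Agent.H10Coh.Local
import Groth.Agent.H17.PullSectLocal
import Groth.Agent.H17.ConsPropBasic
import Groth.Agent.H29Fitt.PullbackQCoh
import Mathlib.RingTheory.Ideal.AssociatedPrime.Basic

/-!
# Every nonzero coherent module contains the direct image of an ideal sheaf of an integral closed subscheme
-/

set_option autoImplicit false
set_option linter.style.haveILetI false
set_option linter.unusedSectionVars false

universe u

open CategoryTheory CategoryTheory.Limits AlgebraicGeometry Opposite TopologicalSpace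

namespace Groth.Agent.LeadDev

variable {X : Scheme.{u}}

theorem exists_injective_linearMap_of_ker_eq {R A B C : Type*} [CommRing R] [AddCommGroup A] [Module R A]
    [AddCommGroup B] [Module R B] [AddCommGroup C] [Module R C] (q : A →ₗ[R] B) (t : A →ₗ[R] C)
    (hq : Function.Surjective q) (h : ∀ a, q a = 0 ↔ t a = 0) :
    ∃ ψ : B →ₗ[R] C, Function.Injective ψ := by
  have hk : LinearMap.ker q ≤ LinearMap.ker t := fun a ha => (h a).1 ha
  refine ⟨(LinearMap.ker q).liftQ t hk ∘ₗ (q.quotKerEquivOfSurjective hq).symm.toLinearMap, ?_⟩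
  refine Function.Injective.comp (g := (LinearMap.ker q).liftQ t hk) ?_ (LinearEquiv.injective _)
  rw [← LinearMap.ker_eq_bot, Submodule.ker_liftQ_eq_bot]
  exact fun a ha => (h a).2 ha

theorem isZero_of_sections {M : X.Modules} (h : ∀ (U : X.Opens) (s : Γ(M, U)), s = 0) : IsZero M :=
  (IsZero.iff_id_eq_zero _).2 (Scheme.Modules.hom_ext _ _ fun U => AddCommGrpCat.hom_ext
    (AddMonoidHom.ext fun s => (h U _).trans (h U _).symm))

theorem isIso_of_bijective_affine {M N : X.Modules} (f : M ⟶ N) (hM : Coh.IsQCoh M) (hN : Coh.IsQCoh N)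
    (h : ∀ U : X.Opens, IsAffineOpen U → Function.Bijective (f.app U)) : IsIso f := by
  haveI : M.IsQuasicoherent := hM
  haveI : N.IsQuasicoherent := hN
  haveI : Mono f := by
    refine Preadditive.mono_of_kernel_zero ?_
    refine (isZero_of_sections fun U s => ?_).eq_of_src _ _
    refine TopCat.Sheaf.eq_of_locally_eq' (H10Coh.sheafOf (kernel f))
      (fun V : {V : X.Opens // IsAffineOpen V ∧ V ≤ U} => V.1) U (fun V => homOfLE V.2.2) ?_ _ _ fun V => ?_
    · intro x hx
      obtain ⟨V, hV, hxV, hle⟩ := exists_isAffineOpen_mem_and_subset (U := U) hx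
      exact Opens.mem_iSup.2 ⟨⟨V, hV, hle⟩, hxV⟩
    · refine Eq.trans ?_ (map_zero _).symm
      refine (H10Coh.injective_app_of_mono' (kernel.ι f) V.1) (((h V.1 V.2.1).1 ?_).trans (map_zero _).symm)
      rw [map_zero]
      exact congr($(congr(Scheme.Modules.Hom.app $(kernel.condition f) V.1)) _)
  haveI : Epi f := by
    refine Preadditive.epi_of_cokernel_zero ?_
    haveI : (cokernel f).IsQuasicoherent := H10Coh.isQuasicoherent_cokernel f
    refine (isZero_of_sections fun U s => ?_).eq_of_tgt _ _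
    refine TopCat.Sheaf.eq_of_locally_eq' (H10Coh.sheafOf (cokernel f))
      (fun V : {V : X.Opens // IsAffineOpen V ∧ V ≤ U} => V.1) U (fun V => homOfLE V.2.2) ?_ _ _ fun V => ?_
    · intro x hx
      obtain ⟨V, hV, hxV, hle⟩ := exists_isAffineOpen_mem_and_subset (U := U) hx
      exact Opens.mem_iSup.2 ⟨⟨V, hV, hle⟩, hxV⟩
    · refine Eq.trans ?_ (map_zero _).symm
      obtain ⟨t, ht⟩ := H10Coh.surjective_app_of_epi (cokernel.π f) V.2.1
        ((cokernel f).presheaf.map (homOfLE V.2.2).op s)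
      obtain ⟨w, rfl⟩ := (h V.1 V.2.1).2 t
      exact ht.symm.trans congr($(congr(Scheme.Modules.Hom.app $(cokernel.condition f) V.1)) w)
  exact isIso_of_mono_of_epi f

/-- A quasi-coherent submodule of the direct image of the structure sheaf of a closed subscheme is the
direct image of a quasi-coherent ideal. -/
theorem exists_ideal_iso {Z : Scheme.{u}} (i : Z ⟶ X) [IsClosedImmersion i] {H : X.Modules}
    (hH : Coh.IsQCoh H) (a : H ⟶ (Coh.push i).obj (Coh.structureModule Z)) [Mono a] :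
    ∃ (I : Z.Modules) (ι : I ⟶ Coh.structureModule Z), Mono ι ∧ Coh.IsQCoh I ∧
      Nonempty (H ≅ (Coh.push i).obj I) := by
  let adj := Scheme.Modules.pullbackPushforwardAdjunction i
  let φ : (Scheme.Modules.pullback i).obj H ⟶ Coh.structureModule Z := (adj.homEquiv _ _).symm a
  haveI : H.IsQuasicoherent := hH
  haveI hPq : ((Scheme.Modules.pullback i).obj H).IsQuasicoherent := H29Fitt.isQCoh_pullback i H hH
  haveI := H10Coh.isQuasicoherent_unit (X := Z)
  let I := Abelian.image φ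
  have hI : Coh.IsQCoh I := by
    haveI : (cokernel φ).IsQuasicoherent := H10Coh.isQuasicoherent_cokernel φ
    exact H10Coh.isQuasicoherent_kernel _
  haveI : I.IsQuasicoherent := hI
  let ι := Abelian.image.ι φ
  let g : H ⟶ (Coh.push i).obj I := adj.unit.app H ≫ (Coh.push i).map (Abelian.factorThruImage φ)
  have hg : g ≫ (Coh.push i).map ι = a := by
    simp only [g, ι, Category.assoc, ← Functor.map_comp, Abelian.image.fac]
    exact (adj.homEquiv_unit H _ φ).symm.trans ((adj.homEquiv _ _).apply_symm_apply a)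
  haveI hgm : Mono g := mono_of_mono_fac hg
  haveI : QuasiCompact i := inferInstance
  have hPI : Coh.IsQCoh ((Coh.push i).obj I) := H10Coh.isQuasicoherent_pushforward i I
  have hbij : ∀ V : X.Opens, IsAffineOpen V → Function.Bijective (g.app V) := fun V hV => by
    refine ⟨H10Coh.injective_app_of_mono' g V, fun y => ?_⟩
    obtain ⟨z, hz⟩ := H10Coh.surjective_app_of_epi (Abelian.factorThruImage φ) (hV.preimage i) y
    obtain ⟨m, hm⟩ := (H17.PullSect.isQuotOn_of_isAffineOpen i H hH hV).1 z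
    refine ⟨m, ?_⟩
    rw [← hz, ← hm]
    rfl
  haveI := isIso_of_bijective_affine g hH hPI hbij
  exact ⟨I, ι, inferInstance, hI, ⟨asIso g⟩⟩

section main

variable [IsNoetherian X]

/-- The coherent module `i_* O_Z`. -/
theorem isCoh_push_structure {Z : Scheme.{u}} (i : Z ⟶ X) [IsClosedImmersion i] :
    Coh.IsCoh ((Coh.push i).obj (Coh.structureModule Z)) := by
  haveI := H10Coh.isQuasicoherent_unit (X := Z)
  refine (H10Coh.isCoh_iff_finite_sections _).2
    ⟨H10Coh.isQuasicoherent_pushforward i _, fun U hU => ?_⟩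
  refine Module.Finite.of_surjective
    (LinearMap.toSpanSingleton Γ(X, U) _ (show Γ((Coh.push i).obj (Coh.structureModule Z), U) from (1 : Γ(Z, i ⁻¹ᵁ U))))
    fun y => ?_
  obtain ⟨r, hr⟩ := Scheme.Hom.app_surjective i U hU y
  refine ⟨r, ?_⟩
  show (i.app U r : Γ(Z, i ⁻¹ᵁ U)) * 1 = y
  rw [mul_one]
  exact hr

/-- The property that `M` contains the direct image of a nonzero ideal of an integral closed subscheme. -/
def HasPrimeSub (M : X.Modules) : Prop :=
  ∃ (Z : Scheme.{u}) (i : Z ⟶ X), IsClosedImmersion i ∧ IsIntegral Z ∧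
    ∃ (I : Z.Modules) (ι : I ⟶ Coh.structureModule Z), Mono ι ∧ Coh.IsQCoh I ∧ ¬ IsZero I ∧
      ∃ f : (Coh.push i).obj I ⟶ M, Mono f

theorem exists_prime_point {R : CommRingCat.{u}} [IsNoetherianRing R] (N : (Spec R).Modules)
    (h : ∃ x : Γ(N, ⊤), x ≠ 0) :
    ∃ (m : moduleSpecΓFunctor.obj N) (p : Spec R), ∀ r : R, r • m = 0 ↔ r ∈ p.asIdeal := by
  haveI : Nontrivial (moduleSpecΓFunctor.obj N : ModuleCat.{u} R) :=
    ⟨by obtain ⟨x, hx⟩ := h; exact ⟨x, 0, hx⟩⟩
  obtain ⟨p, hp⟩ := associatedPrimes.nonempty R (moduleSpecΓFunctor.obj N : ModuleCat.{u} R)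
  obtain ⟨hpp, m, hm⟩ := isAssociatedPrime_iff.1 hp
  refine ⟨m, ⟨p, hpp⟩, fun r => ?_⟩
  change r • m = 0 ↔ r ∈ p
  rw [hm, Submodule.mem_colon_singleton, Submodule.mem_bot]

theorem hasPrimeSub_aux (M : X.Modules) (hM : Coh.IsCoh M) (hne : ¬ IsZero M) :
    HasPrimeSub M ∨ ∃ (K : X.Modules) (f : K ⟶ M), Mono f ∧ Coh.IsCoh K ∧ ¬ IsZero K ∧
      CohB1.support K ≠ CohB1.support M := by
  classical
  -- an affine open with nonzero sections
  obtain ⟨U, hU, x₀, hx₀⟩ : ∃ U : X.Opens, IsAffineOpen U ∧ ∃ s : Γ(M, U), s ≠ 0 := by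
    by_contra hc
    push Not at hc
    refine hne (isZero_of_sections fun V s => ?_)
    refine TopCat.Sheaf.eq_of_locally_eq' (H10Coh.sheafOf M)
      (fun W : {W : X.Opens // IsAffineOpen W ∧ W ≤ V} => W.1) V (fun W => homOfLE W.2.2) ?_ _ _ fun W => ?_
    · intro x hx
      obtain ⟨W, hW, hxW, hle⟩ := exists_isAffineOpen_mem_and_subset (U := V) hx
      exact Opens.mem_iSup.2 ⟨⟨W, hW, hle⟩, hxW⟩
    · exact (hc _ W.2.1 _).trans (map_zero _).symm
  let R := Γ(X, U)
  let j : Spec R ⟶ X := hU.fromSpec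
  haveI : IsLocallyNoetherian (Spec R) := isLocallyNoetherian_of_isOpenImmersion j
  haveI : IsNoetherianRing R := IsLocallyNoetherian.component_noetherian ⟨U, hU⟩
  let W : X.Opens := j ''ᵁ ⊤
  have hWU : W = U := by
    simp only [W, j, Scheme.Hom.image_top_eq_opensRange, hU.opensRange_fromSpec]
  have hW : IsAffineOpen W := hWU ▸ hU
  obtain ⟨m, p, hp⟩ := exists_prime_point (M.restrict j) (by
    refine ⟨M.presheaf.map (eqToHom hWU).op x₀, fun h => hx₀ ?_⟩
    haveI : IsIso (eqToHom hWU) := inferInstance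
    exact (ConcreteCategory.bijective_of_isIso (M.presheaf.map (eqToHom hWU).op)).1 (h.trans (map_zero _).symm))
  let ρ : R → Γ(X, W) := fun r => (j.appIso ⊤).inv ((Scheme.ΓSpecIso R).inv r)
  have hρ : ∀ (N : X.Modules) (r : R) (y : moduleSpecΓFunctor.obj (N.restrict j)),
      r • y = (show moduleSpecΓFunctor.obj (N.restrict j) from ρ r • (show Γ(N, W) from y)) := fun N r y => by
    show r • (show Γ(N.restrict j, ⊤) from y) = _
    rw [Scheme.Modules.smul_Spec_def]
    simp
    rfl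
  have hρb : ∀ r, X.basicOpen (ρ r) = j ''ᵁ PrimeSpectrum.basicOpen r := fun r => by
    rw [← basicOpen_eq_of_affine, Scheme.image_basicOpen]
  let ξ : X := j p
  -- the integral closed subscheme
  obtain ⟨Z, i, hZ, -, hi, hr⟩ :=
    H17.ConsProp.exists_integral_closed (closure {ξ}) isClosed_closure isIrreducible_singleton.closure
  obtain ⟨η, hη⟩ : ξ ∈ Set.range i := hr ▸ subset_closure rfl
  have hgen : ∀ O : Z.Opens, (O : Set Z).Nonempty → η ∈ O := by
    rintro O ⟨z, hz⟩
    have : η ⤳ z := i.isEmbedding.isInducing.specializes_iff.1 (by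
      rw [hη]
      exact specializes_iff_mem_closure.2 (hr.subset (Set.mem_range_self z) : i z ∈ closure {ξ}))
    exact this.mem_open O.2 hz
  set A := (Coh.push i).obj (Coh.structureModule Z)
  have hA : Coh.IsCoh A := isCoh_push_structure i
  -- the map on sections
  let one : moduleSpecΓFunctor.obj (A.restrict j) := (1 : Γ(Z, i ⁻¹ᵁ W))
  let q : R →ₗ[R] moduleSpecΓFunctor.obj (A.restrict j) := LinearMap.toSpanSingleton R _ one
  let t : R →ₗ[R] moduleSpecΓFunctor.obj (M.restrict j) := LinearMap.toSpanSingleton R _ m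
  have hq : ∀ r, (show Γ(Z, i ⁻¹ᵁ W) from q r) = i.app W (ρ r) := fun r => by
    show (show Γ(Z, i ⁻¹ᵁ W) from r • one) = _
    rw [hρ A r one]
    exact mul_one (i.app W (ρ r))
  have hqs : Function.Surjective q := fun y => by
    obtain ⟨s, hs⟩ := Scheme.Hom.app_surjective i W hW (show Γ(Z, i ⁻¹ᵁ W) from y)
    refine ⟨(Scheme.ΓSpecIso R).hom ((j.appIso ⊤).hom s), (hq _).trans ?_⟩
    simp only [ρ, Iso.hom_inv_id_apply]
    exact hs
  have hker : ∀ r, q r = 0 ↔ t r = 0 := fun r => by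
    show q r = 0 ↔ r • m = 0
    rw [hp r]
    have h1 : q r = 0 ↔ i.app W (ρ r) = 0 := by rw [← hq r]; rfl
    rw [h1, ← basicOpen_eq_bot_iff, ← Scheme.preimage_basicOpen, hρb]
    constructor
    · intro h
      by_contra hc
      have : η ∈ i ⁻¹ᵁ (j ''ᵁ PrimeSpectrum.basicOpen r) := by
        show i η ∈ j ''ᵁ PrimeSpectrum.basicOpen r
        rw [hη]
        exact ⟨p, hc, rfl⟩
      rw [h] at this
      exact this
    · intro h
      refine eq_bot_iff.2 fun z hz => ?_
      have := hgen (i ⁻¹ᵁ (j ''ᵁ PrimeSpectrum.basicOpen r)) ⟨z, hz⟩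
      change i η ∈ j ''ᵁ PrimeSpectrum.basicOpen r at this
      rw [hη] at this
      obtain ⟨p', hp', hpp⟩ := this
      rw [j.isOpenEmbedding.injective hpp] at hp'
      exact (hp' h).elim
  obtain ⟨ψ, hψ⟩ := exists_injective_linearMap_of_ker_eq q t hqs hker
  let ψ' : moduleSpecΓFunctor.obj (A.restrict j) ⟶ moduleSpecΓFunctor.obj (M.restrict j) := ModuleCat.ofHom (X := moduleSpecΓFunctor.obj (A.restrict j)) (Y := moduleSpecΓFunctor.obj (M.restrict j)) ψ
  obtain ⟨f, hfm, -⟩ := exists_hom_of_sections (A.restrict j) (M.restrict j) (isQCoh_restrict j A hA.1)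
    (isQCoh_restrict j M hM.1) ψ'
  haveI : Mono f := hfm ((ModuleCat.mono_iff_injective _).2 hψ)
  obtain ⟨H, a, b, hH, hab, ha, hb⟩ := exists_compare j hA hM f
  set F := Scheme.Modules.restrictFunctor j
  haveI := ha
  haveI : Mono (F.map b) := by rw [hb]; infer_instance
  have hξj : ξ ∈ Set.range j := ⟨p, rfl⟩
  -- the kernels
  have hKa : IsZero (F.obj (kernel a)) := by
    rw [IsZero.iff_id_eq_zero, ← cancel_mono (F.map (kernel.ι a)), ← cancel_mono (F.map a)]
    simp [← Functor.map_comp]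
  have hKb : IsZero (F.obj (kernel b)) := by
    rw [IsZero.iff_id_eq_zero, ← cancel_mono (F.map (kernel.ι b)), ← cancel_mono (F.map b)]
    simp [← Functor.map_comp]
  have hjoint : ∀ {T : X.Modules} (s : T ⟶ H), s ≫ a = 0 → s ≫ b = 0 → s = 0 := fun s h₁ h₂ => by
    rw [← cancel_mono (biprod.lift a b), zero_comp]
    apply biprod.hom_ext <;> simp [h₁, h₂]
  by_cases hz : IsZero (kernel a)
  swap
  · refine Or.inr ⟨kernel a, kernel.ι a ≫ b, Preadditive.mono_of_cancel_zero _ fun s hs => ?_,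
      H10Coh.isCoh_kernel a hH hA.1, hz, fun heq => ?_⟩
    · rw [← cancel_mono (kernel.ι a), zero_comp]
      exact hjoint _ (by simp) (by rw [Category.assoc]; exact hs)
    · have hξM : ξ ∈ CohB1.support M := by
        intro (hsub : Subsingleton (M.presheaf.stalk ξ))
        obtain ⟨O, hξO, hO⟩ := H10Coh.exists_nhd_isZero M hM.2 ξ hsub
        obtain ⟨_, ⟨_, ⟨g, rfl⟩, rfl⟩, hpg, hgle⟩ :=
          PrimeSpectrum.isBasis_basic_opens.exists_subset_of_mem_open (show p ∈ (j ⁻¹ᵁ O : Set (Spec R)) from hξO)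
            (j ⁻¹ᵁ O).2
        haveI : M.IsQuasicoherent := hM.1
        obtain ⟨N, hN⟩ := H10Coh.exists_pow_smul_eq_zero_of_isCompact M hW.isCompact (ρ g) (show Γ(M, W) from m)
          (sections_restrict_eq_zero O.ι hO (by
            rw [hρb, Scheme.Opens.opensRange_ι]
            rintro _ ⟨y, hy, rfl⟩
            exact hgle hy) _)
        have hpow : ∀ n : ℕ, ρ g ^ n = ρ (g ^ n) := fun n => by simp [ρ]
        rw [hpow] at hN
        have h2 : g ^ N ∈ p.asIdeal := (hp _).1 ((hρ M _ m).trans hN)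
        exact hpg (p.2.mem_of_pow_mem _ h2)
      rw [← heq] at hξM
      exact notMem_support_of_isZero_restrict j hKa hξj hξM
  haveI : Mono a := Preadditive.mono_of_kernel_zero (hz.eq_of_src _ _)
  haveI : Mono b := by
    refine Preadditive.mono_of_kernel_zero ((isZero_of_sections fun O s => ?_).eq_of_src _ _)
    let κ : kernel b ⟶ A := kernel.ι b ≫ a
    haveI : Mono κ := Preadditive.mono_of_cancel_zero _ fun s hs => by
      rw [← cancel_mono (kernel.ι b), zero_comp]
      exact hjoint _ (by rw [Category.assoc]; exact hs) (by simp)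
    refine H10Coh.injective_app_of_mono' κ O (Eq.trans ?_ (map_zero _).symm)
    let y : Γ(Z, i ⁻¹ᵁ O) := κ.app O s
    show y = 0
    have hres : A.presheaf.map (homOfLE (inf_le_left : O ⊓ j.opensRange ≤ O)).op (κ.app O s) = 0 := by
      refine (congr($(κ.mapPresheaf.naturality (homOfLE inf_le_left).op) s)).symm.trans ?_
      rw [ConcreteCategory.comp_apply, sections_restrict_eq_zero j hKb inf_le_right
        ((kernel b).presheaf.map (homOfLE inf_le_left).op s)]
      exact map_zero _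
    by_cases hne' : ((i ⁻¹ᵁ O : Z.Opens) : Set Z).Nonempty
    · have hηO : η ∈ i ⁻¹ᵁ O := hgen _ hne'
      haveI : Nonempty ↥(i ⁻¹ᵁ (O ⊓ j.opensRange)) :=
        ⟨⟨η, hηO, by show i η ∈ j.opensRange; rw [hη]; exact hξj⟩⟩
      haveI : Nonempty ↥(i ⁻¹ᵁ (O ⊓ j.opensRange)).toScheme :=
        ⟨⟨η, hηO, by show i η ∈ j.opensRange; rw [hη]; exact hξj⟩⟩
      exact map_injective_of_isIntegral (X := Z) (homOfLE (fun z hz => hz.1) : i ⁻¹ᵁ (O ⊓ j.opensRange) ⟶ i ⁻¹ᵁ O)
        (hres.trans (map_zero _).symm)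
    · have : i ⁻¹ᵁ O = ⊥ := Opens.ext (Set.not_nonempty_iff_eq_empty.1 hne')
      haveI : Subsingleton Γ(Z, i ⁻¹ᵁ O) := by rw [this]; infer_instance
      exact Subsingleton.elim _ _
  obtain ⟨I, ι, hι, hIq, ⟨e⟩⟩ := exists_ideal_iso i hH.1 a
  refine Or.inl ⟨Z, i, hi, hZ, I, ι, hι, hIq, fun h0 => ?_, e.inv ≫ b, inferInstance⟩
  have hHz : IsZero H := ((Coh.push i).map_isZero h0).of_iso e
  have hFA : IsZero (F.obj A) := (F.map_isZero hHz).of_iso (asIso (F.map a)).symm
  have h1 : (show Γ(Z, i ⁻¹ᵁ W) from one) = 0 :=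
    congr($(congr(Scheme.Modules.Hom.app $(hFA.eq_of_src (𝟙 (F.obj A)) 0) ⊤)) one)
  haveI : Nonempty ↥(i ⁻¹ᵁ W) := ⟨⟨η, by show i η ∈ W; rw [hη]; exact ⟨p, trivial, rfl⟩⟩⟩
  exact one_ne_zero (α := Γ(Z, i ⁻¹ᵁ W)) h1

theorem hasPrimeSub (M : X.Modules) (hM : Coh.IsCoh M) (hne : ¬ IsZero M) : HasPrimeSub M := by
  have key : ∀ (C : Closeds X) (M : X.Modules), Coh.IsCoh M → ¬ IsZero M →
      CohB1.support M = C → HasPrimeSub M := by
    intro C
    induction C using WellFoundedLT.induction with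
    | ind C ih =>
      intro M hM hne hC
      rcases hasPrimeSub_aux M hM hne with h | ⟨K, f, hf, hK, hKne, hsupp⟩
      · exact h
      · have hlt : (⟨CohB1.support K, H10Coh.isClosed_support K hK.2⟩ : Closeds X) < C := by
          refine lt_of_le_of_ne ?_ fun he => hsupp ?_
          · show CohB1.support K ≤ (C : Set X)
            rw [← hC]
            exact support_subset_of_mono f
          · rw [hC, ← he]; rfl
        obtain ⟨Z, i, hi, hZ, I, ι, hι, hIq, hI0, g, hg⟩ := ih _ hlt K hK hKne rfl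
        exact ⟨Z, i, hi, hZ, I, ι, hι, hIq, hI0, g ≫ f, inferInstance⟩
  exact key ⟨_, H10Coh.isClosed_support M hM.2⟩ M hM hne rfl

end main

end Groth.Agent.LeadDev
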