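import Groth.Agent.LeadDev.Sub
import Groth.Agent.H17.AssPts
import Groth.Prelude.Def_Dual3

/-!
# Sections-level criteria for supports of kernels and cokernels; ideal multiples
-/

set_option autoImplicit false
set_option linter.style.haveILetI false
set_option linter.unusedSectionVars false

universe u

open CategoryTheory CategoryTheory.Limits AlgebraicGeometry Opposite TopologicalSpace

namespace Groth.Agent.LeadDev

variable {X : Scheme.{u}}

/-- `c` does not vanish at `ξ`. -/
def UnitAt (ξ : X) (W : X.Opens) (c : Γ(X, W)) : Prop := ξ ∈ X.basicOpen c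

theorem UnitAt.mul {ξ : X} {W : X.Opens} {c d : Γ(X, W)} (hc : UnitAt ξ W c) (hd : UnitAt ξ W d) :
    UnitAt ξ W (c * d) := by
  rw [UnitAt, Scheme.basicOpen_mul]; exact ⟨hc, hd⟩

theorem unitAt_one {ξ : X} {W : X.Opens} (h : ξ ∈ W) : UnitAt ξ W 1 := by
  rw [UnitAt, Scheme.basicOpen_of_isUnit _ isUnit_one]; exact h

theorem UnitAt.of_mul {ξ : X} {W : X.Opens} {c d : Γ(X, W)} (h : UnitAt ξ W (c * d)) : UnitAt ξ W c := by
  rw [UnitAt, Scheme.basicOpen_mul] at h; exact h.1

/-- `f` is surjective at `ξ`, seen on sections over `W`. -/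
def SurjAt (ξ : X) (W : X.Opens) {M N : X.Modules} (f : M ⟶ N) : Prop :=
  ∀ y : Γ(N, W), ∃ (c : Γ(X, W)) (x : Γ(M, W)), UnitAt ξ W c ∧ f.app W x = c • y

theorem SurjAt.comp {ξ : X} {W : X.Opens} {M N P : X.Modules} {f : M ⟶ N} {g : N ⟶ P}
    (hf : SurjAt ξ W f) (hg : SurjAt ξ W g) : SurjAt ξ W (f ≫ g) := fun y => by
  obtain ⟨c, x, hc, hx⟩ := hg y
  obtain ⟨d, w, hd, hw⟩ := hf x
  refine ⟨d * c, w, hd.mul hc, ?_⟩
  show g.app W (f.app W w) = _
  rw [hw, Scheme.Modules.Hom.app_smul, hx, smul_smul]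

theorem SurjAt.of_comp_mono {ξ : X} {W : X.Opens} {M N P : X.Modules} {f : M ⟶ N} {g : N ⟶ P} [Mono g]
    (h : SurjAt ξ W (f ≫ g)) : SurjAt ξ W f := fun y => by
  obtain ⟨c, x, hc, hx⟩ := h (g.app W y)
  exact ⟨c, x, hc, H10Coh.injective_app_of_mono' g W (hx.trans (Scheme.Modules.Hom.app_smul g c y).symm)⟩

theorem exists_unitAt_smul_eq_zero {ξ : X} {W : X.Opens} (hW : IsAffineOpen W) (hξ : ξ ∈ W)
    (M : X.Modules) (hM : Coh.IsQCoh M) (h : ξ ∉ CohB1.support M) (s : Γ(M, W)) :
    ∃ c, UnitAt ξ W c ∧ c • s = 0 := by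
  have hs : Subsingleton (M.presheaf.stalk ξ) := not_not.1 h
  exact H17.AssPts.exists_smul_eq_zero_of_germ M hM hW hξ (Subsingleton.elim _ _)

theorem notMem_support_of_smul {ξ : X} {W : X.Opens} (hW : IsAffineOpen W) (hξ : ξ ∈ W)
    (M : X.Modules) (hM : Coh.IsQCoh M) (h : ∀ s : Γ(M, W), ∃ c, UnitAt ξ W c ∧ c • s = 0) :
    ξ ∉ CohB1.support M := fun hs => hs (subsingleton_of_forall_eq 0 fun m => by
  obtain ⟨t, s, ht, hts⟩ := H17.AssPts.exists_smul_germ_eq M hM hW hξ m
  obtain ⟨c, hc, hcs⟩ := h s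
  have h1 : IsUnit (X.presheaf.germ W ξ hξ (c * t)) := (H17.AssPts.isUnit_germ_iff hξ _).2 (hc.mul ht)
  have h2 : X.presheaf.germ W ξ hξ (c * t) • m = 0 := by
    rw [map_mul, mul_smul, hts, ← H17.AssPts.germ_smul' M hξ, hcs, map_zero]
  exact h1.smul_eq_zero.1 h2)

section qcoh

variable {M N : X.Modules} (f : M ⟶ N) (hM : Coh.IsQCoh M) (hN : Coh.IsQCoh N)

include hM hN

theorem notMem_support_cokernel {ξ : X} {W : X.Opens} (hW : IsAffineOpen W) (hξ : ξ ∈ W)
    (h : SurjAt ξ W f) : ξ ∉ CohB1.support (cokernel f) := by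
  haveI : M.IsQuasicoherent := hM
  haveI : N.IsQuasicoherent := hN
  haveI : (cokernel f).IsQuasicoherent := H10Coh.isQuasicoherent_cokernel f
  refine notMem_support_of_smul hW hξ _ inferInstance fun s => ?_
  obtain ⟨y, rfl⟩ := H10Coh.surjective_app_of_epi (cokernel.π f) hW s
  obtain ⟨c, x, hc, hx⟩ := h y
  refine ⟨c, hc, ?_⟩
  rw [← Scheme.Modules.Hom.app_smul, ← hx]
  exact congr($(congr(Scheme.Modules.Hom.app $(cokernel.condition f) W)) x)

theorem surjAt_of_notMem_support [IsLocallyNoetherian X] {ξ : X} {W : X.Opens} (hW : IsAffineOpen W)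
    (hξ : ξ ∈ W) [Mono f] (h : ξ ∉ CohB1.support (cokernel f)) : SurjAt ξ W f := fun y => by
  haveI : M.IsQuasicoherent := hM
  haveI : N.IsQuasicoherent := hN
  haveI : (cokernel f).IsQuasicoherent := H10Coh.isQuasicoherent_cokernel f
  obtain ⟨c, hc, hc0⟩ := exists_unitAt_smul_eq_zero hW hξ (cokernel f) inferInstance h
    ((cokernel.π f).app W y)
  have hS : (ShortComplex.mk f (cokernel.π f) (cokernel.condition f)).ShortExact :=
    ShortComplex.ShortExact.mk' (ShortComplex.exact_cokernel f) inferInstance inferInstance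
  obtain ⟨x, hx⟩ := H10Coh.exists_app_eq_of_exact hS W (c • y)
    ((Scheme.Modules.Hom.app_smul _ _ _).trans hc0)
  exact ⟨c, x, hc, hx⟩

end qcoh

section idealMul

variable [IsNoetherian X] (J : X.IdealSheafData) (G : X.Modules) (hG : Coh.IsCoh G)

include hG

theorem isCoh_idealMul : Coh.IsCoh ((Dual3.idealMul J).obj G) := by
  haveI : ((Scheme.Modules.pullback J.subschemeι).obj G).IsQuasicoherent := H29Fitt.isQCoh_pullback _ G hG.1
  exact H10Coh.isCoh_kernel _ hG (H10Coh.isQuasicoherent_pushforward J.subschemeι _)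

theorem idealMulι_app_mem (U : X.affineOpens) (s : Γ((Dual3.idealMul J).obj G, U.1)) :
    (Dual3.idealMulι J G).app U.1 s ∈ J.ideal U • (⊤ : Submodule Γ(X, U.1) Γ(G, U.1)) := by
  rw [← J.ker_subschemeι_app U]
  exact (H17.PullSect.isQuotOn_of_isAffineOpen J.subschemeι G hG.1 U.2).2 _
    congr($(congr(Scheme.Modules.Hom.app
      $(kernel.condition ((Scheme.Modules.pullbackPushforwardAdjunction J.subschemeι).unit.app G)) U.1)) s)

theorem exists_idealMulι_app_eq (U : X.affineOpens) (a : Γ(X, U.1)) (ha : a ∈ J.ideal U) (y : Γ(G, U.1)) :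
    ∃ s, (Dual3.idealMulι J G).app U.1 s = a • y := by
  let η := (Scheme.Modules.pullbackPushforwardAdjunction J.subschemeι).unit.app G
  haveI : ((Scheme.Modules.pullback J.subschemeι).obj G).IsQuasicoherent := H29Fitt.isQCoh_pullback _ G hG.1
  haveI := H10Coh.isQuasicoherent_pushforward J.subschemeι ((Scheme.Modules.pullback J.subschemeι).obj G)
  have h0 : η.app U.1 (a • y) = 0 := by
    refine (OmegaSh.pullSect_smul J.subschemeι G U.1 a y).trans ?_
    rw [show J.subschemeι.app U.1 a = 0 from (J.ker_subschemeι_app U).symm.le ha]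
    exact zero_smul _ _
  have hS : (ShortComplex.mk (Abelian.factorThruImage η) (cokernel.π (Abelian.factorThruImage η))
      (cokernel.condition _)).Exact := ShortComplex.exact_cokernel _
  have hK : (ShortComplex.mk (kernel.ι η) (Abelian.factorThruImage η) (by
      rw [← cancel_mono (Abelian.image.ι η), Category.assoc, Abelian.image.fac, kernel.condition,
        zero_comp])).ShortExact := by
    refine ShortComplex.ShortExact.mk' (ShortComplex.exact_of_f_is_kernel _ ?_) inferInstance inferInstance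
    refine KernelFork.IsLimit.ofι' (kernel.ι η) _ fun {W} g hg => ⟨kernel.lift η g ?_, kernel.lift_ι _ _ _⟩
    refine Eq.trans (congrArg (g ≫ ·) (Abelian.image.fac η).symm) ?_
    show g ≫ Abelian.factorThruImage η ≫ Abelian.image.ι η = 0
    rw [← Category.assoc, hg, zero_comp]
  obtain ⟨s, hs⟩ := H10Coh.exists_app_eq_of_exact hK U.1 (a • y) (by
    refine H10Coh.injective_app_of_mono' (Abelian.image.ι η) U.1 (Eq.trans ?_ (map_zero _).symm)
    refine Eq.trans ?_ h0
    exact congr($(congr(Scheme.Modules.Hom.app $(Abelian.image.fac η) U.1)) (a • y)))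
  exact ⟨s, hs⟩

theorem surjAt_idealMulι {ξ : X} (hJ : ξ ∉ (J.support : Set X)) (U : X.affineOpens) (hξ : ξ ∈ U.1) :
    SurjAt ξ U.1 (Dual3.idealMulι J G) := fun y => by
  have h : ξ ∉ X.zeroLocus (U := U.1) (J.ideal U : Set Γ(X, U.1)) := fun hz =>
    hJ ((J.coe_support_inter U).ge ⟨hz, hξ⟩).1
  rw [Scheme.mem_zeroLocus_iff] at h
  push Not at h
  obtain ⟨a, ha, haξ⟩ := h
  obtain ⟨s, hs⟩ := exists_idealMulι_app_eq J G hG U a ha y
  exact ⟨a, s, haξ, hs⟩

end idealMul

/-- An ideal avoiding `ξ` whose multiples in `G` meet a submodule supported away from `ξ` trivially and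
die in a quotient supported away from `ξ`. -/
theorem exists_good_ideal [IsNoetherian X] {G T Q : X.Modules} (hG : Coh.IsCoh G) (hT : Coh.IsCoh T)
    (hQ : Coh.IsCoh Q) (t : T ⟶ G) (π : G ⟶ Q) (ξ : X)
    (hξT : ξ ∉ CohB1.support T) (hξQ : ξ ∉ CohB1.support Q) :
    ∃ (J : X.IdealSheafData), ξ ∉ (J.support : Set X) ∧ Dual3.idealMulι J G ≫ π = 0 ∧
      ∀ {S : X.Modules} (a : S ⟶ T) (b : S ⟶ (Dual3.idealMul J).obj G) [Mono t],
        a ≫ t = b ≫ Dual3.idealMulι J G → a = 0 := by
  classical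
  let C : Closeds X := ⟨CohB1.support T ∪ CohB1.support Q,
    (H10Coh.isClosed_support T hT.2).union (H10Coh.isClosed_support Q hQ.2)⟩
  let I := Scheme.IdealSheafData.vanishingIdeal C
  haveI : CompactSpace X := inferInstance
  obtain ⟨k, U, hU, -, hcov⟩ := H10Coh.exists_finite_affine_cover (W := (⊤ : X.Opens)) isCompact_univ
  haveI : ∀ a, IsNoetherianRing Γ(X, U a) := fun a => IsLocallyNoetherian.component_noetherian ⟨U a, hU a⟩
  have hkill : ∀ (M : X.Modules), Coh.IsCoh M → CohB1.support M ⊆ C → ∀ a : Fin k, ∃ n : ℕ,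
      (I.ideal ⟨U a, hU a⟩) ^ n • (⊤ : Submodule Γ(X, U a) Γ(M, U a)) = ⊥ := by
    intro M hM hMC a
    haveI := ((H10Coh.isCoh_iff_finite_sections M).1 hM).2 _ (hU a)
    have hrad : I.ideal ⟨U a, hU a⟩ ≤ (⊤ : Submodule Γ(X, U a) Γ(M, U a)).annihilator.radical := by
      intro f hf
      obtain ⟨T₀, hT₀⟩ := Module.Finite.fg_top (R := Γ(X, U a)) (M := Γ(M, U a))
      haveI : M.IsQuasicoherent := hM.1
      have hs : ∀ s : Γ(M, U a), ∃ n : ℕ, f ^ n • s = 0 := fun s => by
        refine H29Blow.exists_pow_smul_eq_zero M hM.1 (hU a) _ _ ?_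
        refine TopCat.Presheaf.section_ext (H10Coh.sheafOf M) _ _ _ fun x hx => ?_
        have hxC : x ∉ CohB1.support M := fun hxs => by
          have hxU : x ∈ U a := X.basicOpen_le f hx
          have hxI : x ∈ (I.support : Set X) := by
            rw [Scheme.IdealSheafData.coe_support_vanishingIdeal]; exact hMC hxs
          have := ((I.coe_support_inter ⟨U a, hU a⟩).le ⟨hxI, hxU⟩).1
          exact ((X.mem_zeroLocus_iff _ _).1 this f hf) hx
        haveI : Subsingleton (M.presheaf.stalk x) := not_not.1 hxC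
        exact Subsingleton.elim (α := M.presheaf.stalk x) _ _
      choose n hn using hs
      refine ⟨T₀.sup n, Submodule.mem_annihilator.2 fun s hs0 => ?_⟩
      clear hs0
      have : s ∈ Submodule.span Γ(X, U a) (T₀ : Set Γ(M, U a)) := hT₀ ▸ trivial
      induction this using Submodule.span_induction with
      | mem x hx =>
        rw [show T₀.sup n = (T₀.sup n - n x) + n x from (Nat.sub_add_cancel (Finset.le_sup hx)).symm,
          pow_add, mul_smul, hn, smul_zero]
      | zero => rw [smul_zero]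
      | add x y _ _ hx hy => rw [smul_add, hx, hy, add_zero]
      | smul r x _ hx => rw [smul_comm, hx, smul_zero]
    obtain ⟨n, hn⟩ := Ideal.exists_pow_le_of_le_radical_of_fg hrad (IsNoetherian.noetherian _)
    exact ⟨n, eq_bot_iff.2 (Submodule.smul_le.2 fun r hr s _ =>
      (Submodule.mem_annihilator.1 (hn hr) s trivial).symm ▸ Submodule.zero_mem _)⟩
  choose nT hnT using fun a => hkill T hT Set.subset_union_left a
  choose nQ hnQ using fun a => hkill Q hQ Set.subset_union_right a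
  choose P hP using fun a : Fin k => (show ∃ P : Submodule Γ(X, U a) Γ(G, U a), ∀ x, x ∈ P ↔
      ∃ y, t.app (U a) y = x from
    ⟨{ carrier := Set.range (t.app (U a))
       add_mem' := by rintro _ _ ⟨c, rfl⟩ ⟨d, rfl⟩; exact ⟨c + d, map_add _ _ _⟩
       zero_mem' := ⟨0, map_zero _⟩
       smul_mem' := by rintro r _ ⟨c, rfl⟩; exact ⟨r • c, Scheme.Modules.Hom.app_smul t r c⟩ }, fun _ => Iff.rfl⟩)
  haveI : ∀ a, Module.Finite Γ(X, U a) Γ(G, U a) := fun a =>
    ((H10Coh.isCoh_iff_finite_sections G).1 hG).2 _ (hU a)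
  choose kAR hkAR using fun a => (I.ideal ⟨U a, hU a⟩).exists_pow_inf_eq_pow_smul (P a)
  let n := (Finset.univ.sup fun a => nQ a + nT a + kAR a) + 1
  have hle : ∀ a, nQ a + nT a + kAR a ≤ n := fun a =>
    (Finset.le_sup (f := fun a => nQ a + nT a + kAR a) (Finset.mem_univ a)).trans (Nat.le_succ _)
  refine ⟨I ^ n, ?_, ?_, ?_⟩
  · rw [Scheme.IdealSheafData.support_pow _ _ (Nat.succ_ne_zero _),
      Scheme.IdealSheafData.coe_support_vanishingIdeal]
    exact fun h => h.elim hξT hξQ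
  · refine Scheme.Modules.hom_ext _ _ fun W => ?_
    ext s
    refine TopCat.Sheaf.eq_of_locally_eq' (H10Coh.sheafOf Q)
      (fun V : {V : X.Opens // V ≤ W ∧ ∃ a, V ≤ U a ∧ IsAffineOpen V ∧ ∃ f, X.basicOpen f = V ∧ f ∈ Set.univ
        (α := Γ(X, U a))} => V.1) W (fun V => homOfLE V.2.1) ?_ _ _ fun V => ?_
    · intro x hx
      obtain ⟨a, hxa⟩ := Opens.mem_iSup.1 (hcov (Opens.mem_top x))
      obtain ⟨f, hf, hxf⟩ := (hU a).exists_basicOpen_le (V := W) ⟨x, hx⟩ hxa
      exact Opens.mem_iSup.2 ⟨⟨X.basicOpen f, hf, a, X.basicOpen_le f, (hU a).basicOpen f, f, rfl, trivial⟩, hxf⟩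
    · obtain ⟨V, hVW, a, -, hVA, f, rfl, -⟩ := V
      refine Eq.trans ?_ (map_zero _).symm
      refine (congr($((Dual3.idealMulι (I ^ n) G ≫ π).mapPresheaf.naturality (homOfLE hVW).op) s)).symm.trans ?_
      set w := ((Dual3.idealMul (I ^ n)).obj G).presheaf.map (homOfLE hVW).op s
      haveI : ((Dual3.idealMul (I ^ n)).obj G).IsQuasicoherent := (isCoh_idealMul _ G hG).1
      obtain ⟨m, z, hz⟩ := H29Blow.exists_pow_smul_eq_res ((Dual3.idealMul (I ^ n)).obj G) inferInstance (hU a) f w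
      have h0 : (Dual3.idealMulι (I ^ n) G ≫ π).app (U a) z = 0 := by
        have hz' := idealMulι_app_mem (I ^ n) G hG ⟨U a, hU a⟩ z
        show π.app (U a) _ = 0
        rw [Scheme.IdealSheafData.ideal_pow, Pi.pow_apply] at hz'
        refine Submodule.smul_induction_on hz' (fun r hr y _ => ?_)
          (fun x y hx hy => by rw [map_add, hx, hy, add_zero])
        rw [Scheme.Modules.Hom.app_smul]
        have : r • π.app (U a) y ∈ (I.ideal ⟨U a, hU a⟩) ^ (nQ a) • (⊤ : Submodule Γ(X, U a) Γ(Q, U a)) :=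
          Submodule.smul_mem_smul (Ideal.pow_le_pow_right (by have := hle a; omega) hr) trivial
        rwa [hnQ a, Submodule.mem_bot] at this
      have h1 : X.presheaf.map (homOfLE (X.basicOpen_le f)).op (f ^ m) •
          (Dual3.idealMulι (I ^ n) G ≫ π).app (X.basicOpen f) w = 0 := by
        rw [← Scheme.Modules.Hom.app_smul, ← hz]
        refine (congr($((Dual3.idealMulι (I ^ n) G ≫ π).mapPresheaf.naturality (homOfLE (X.basicOpen_le f)).op) z)).trans ?_
        show Q.presheaf.map (homOfLE (X.basicOpen_le f)).op _ = 0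
        erw [h0, map_zero]
      have hu : IsUnit (X.presheaf.map (homOfLE (X.basicOpen_le f)).op (f ^ m)) := by
        rw [map_pow]; exact (X.toRingedSpace.isUnit_res_basicOpen f).pow m
      show ((Dual3.idealMulι (I ^ n) G ≫ π).app (X.basicOpen f) w : Γ(Q, X.basicOpen f)) = 0
      exact hu.smul_eq_zero.1 h1
  · intro S a b _ hab
    refine Scheme.Modules.hom_ext _ _ fun W => ?_
    ext s
    refine TopCat.Sheaf.eq_of_locally_eq' (H10Coh.sheafOf T)
      (fun V : {V : X.Opens // V ≤ W ∧ ∃ (i : Fin k) (f : Γ(X, U i)), X.basicOpen f = V} => V.1) W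
      (fun V => homOfLE V.2.1) ?_ _ _ fun V => ?_
    · intro x hx
      obtain ⟨i, hxi⟩ := Opens.mem_iSup.1 (hcov (Opens.mem_top x))
      obtain ⟨f, hf, hxf⟩ := (hU i).exists_basicOpen_le (V := W) ⟨x, hx⟩ hxi
      exact Opens.mem_iSup.2 ⟨⟨X.basicOpen f, hf, i, f, rfl⟩, hxf⟩
    · obtain ⟨V, hVW, i, f, rfl⟩ := V
      refine Eq.trans ?_ (map_zero _).symm
      refine (congr($(a.mapPresheaf.naturality (homOfLE hVW).op) s)).symm.trans ?_
      set w := S.presheaf.map (homOfLE hVW).op s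
      have e := congr($(congr(Scheme.Modules.Hom.app $hab (X.basicOpen f))) w)
      haveI : T.IsQuasicoherent := hT.1
      haveI : ((Dual3.idealMul (I ^ n)).obj G).IsQuasicoherent := (isCoh_idealMul _ G hG).1
      obtain ⟨m₁, z₁, hz₁⟩ := H29Blow.exists_pow_smul_eq_res T inferInstance (hU i) f (a.app (X.basicOpen f) w)
      obtain ⟨m₂, z₂, hz₂⟩ := H29Blow.exists_pow_smul_eq_res ((Dual3.idealMul (I ^ n)).obj G) inferInstance (hU i) f
        (b.app (X.basicOpen f) w)
      let d : Γ(G, U i) := f ^ m₂ • t.app (U i) z₁ - f ^ m₁ • (Dual3.idealMulι (I ^ n) G).app (U i) z₂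
      have hd : G.presheaf.map (homOfLE (X.basicOpen_le f)).op d = 0 := by
        simp only [d, map_sub, Scheme.Modules.map_smul]
        have e1 : G.presheaf.map (homOfLE (X.basicOpen_le f)).op (t.app (U i) z₁) =
            t.app (X.basicOpen f) (T.presheaf.map (homOfLE (X.basicOpen_le f)).op z₁) :=
          congr($(t.mapPresheaf.naturality (homOfLE (X.basicOpen_le f)).op) z₁).symm
        have e2 : G.presheaf.map (homOfLE (X.basicOpen_le f)).op ((Dual3.idealMulι (I ^ n) G).app (U i) z₂) =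
            (Dual3.idealMulι (I ^ n) G).app (X.basicOpen f)
              (((Dual3.idealMul (I ^ n)).obj G).presheaf.map (homOfLE (X.basicOpen_le f)).op z₂) :=
          congr($((Dual3.idealMulι (I ^ n) G).mapPresheaf.naturality (homOfLE (X.basicOpen_le f)).op) z₂).symm
        rw [e1, e2, hz₁, hz₂, Scheme.Modules.Hom.app_smul, Scheme.Modules.Hom.app_smul, smul_comm]
        exact sub_eq_zero.2 (congrArg _ (congrArg _ e))
      obtain ⟨N, hN⟩ := H29Blow.exists_pow_smul_eq_zero G hG.1 (hU i) f d hd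
      rw [smul_sub, sub_eq_zero, smul_smul, smul_smul] at hN
      have hmem : (f ^ N * f ^ m₂) • t.app (U i) z₁ ∈
          (I.ideal ⟨U i, hU i⟩) ^ n • (⊤ : Submodule Γ(X, U i) Γ(G, U i)) ⊓ P i := by
        refine ⟨?_, Submodule.smul_mem _ _ ((hP i _).2 ⟨z₁, rfl⟩)⟩
        rw [hN]
        refine Submodule.smul_mem _ _ ?_
        have := idealMulι_app_mem (I ^ n) G hG ⟨U i, hU i⟩ z₂
        rwa [Scheme.IdealSheafData.ideal_pow, Pi.pow_apply] at this
      rw [hkAR i n (by have := hle i; omega)] at hmem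
      have hzero : (f ^ N * f ^ m₂) • t.app (U i) z₁ = 0 := by
        refine Submodule.smul_induction_on hmem (fun r hr y hy => ?_) (fun x y hx hy => by rw [hx, hy, add_zero])
        obtain ⟨y', rfl⟩ := (hP i y).1 hy.2
        rw [← Scheme.Modules.Hom.app_smul]
        have : r • y' ∈ (I.ideal ⟨U i, hU i⟩) ^ (nT i) • (⊤ : Submodule Γ(X, U i) Γ(T, U i)) :=
          Submodule.smul_mem_smul (Ideal.pow_le_pow_right (by have := hle i; omega) hr) trivial
        rw [hnT i, Submodule.mem_bot] at this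
        rw [this, map_zero]
      have hz0 : (f ^ N * f ^ m₂) • z₁ = 0 := H10Coh.injective_app_of_mono' t (U i)
        ((Scheme.Modules.Hom.app_smul t _ z₁).trans (hzero.trans (map_zero _).symm))
      have h1 := congrArg (T.presheaf.map (homOfLE (X.basicOpen_le f)).op) hz0
      rw [Scheme.Modules.map_smul, map_zero, hz₁, smul_smul, ← map_mul] at h1
      have hu : IsUnit (X.presheaf.map (homOfLE (X.basicOpen_le f)).op (f ^ N * f ^ m₂ * f ^ m₁)) := by
        rw [← pow_add, ← pow_add, map_pow]; exact (X.toRingedSpace.isUnit_res_basicOpen f).pow _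
      show (a.app (X.basicOpen f) w : Γ(T, X.basicOpen f)) = 0
      exact hu.smul_eq_zero.1 h1

end Groth.Agent.LeadDev
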